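import Groth.Agent.H27LangWeil.Pieces
import Groth.Agent.H27LangWeil.Abscissa
import Mathlib

/-!
# Points of prime norm on a piece of a component dominating `Spec ℤ`
-/

set_option autoImplicit false
set_option synthInstance.maxHeartbeats 200000
set_option maxHeartbeats 1000000
universe u

noncomputable section

open CategoryTheory AlgebraicGeometry TopologicalSpace NumberField IsDedekindDomain

namespace Groth.Agent.H27Mero

/-- A piece of a component dominating `Spec ℤ`, with its points of prime norm. -/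
structure HorPiece (X : Scheme.{u}) (η : X) (O : Set X) where
  /-- The piece. -/
  V : X.Opens
  mem : η ∈ V
  sub : (V : Set X) ⊆ O
  /-- The field of constants. -/
  K : Type u
  [instField : Field K]
  [instNF : NumberField K]
  /-- The relative dimension. -/
  t : ℕ
  /-- The bad primes divide `h`. -/
  h : ℕ
  hpos : 0 < h
  /-- The error constant. -/
  C : ℝ
  /-- Points above a good prime. -/
  n : HeightOneSpectrum (𝓞 K) → ℕ
  est : ∀ P : HeightOneSpectrum (𝓞 K), Nat.Coprime (Ideal.absNorm P.asIdeal) h →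
    |(n P : ℝ) - (Ideal.absNorm P.asIdeal : ℝ) ^ t| * Real.sqrt (Ideal.absNorm P.asIdeal) ≤
      C * (Ideal.absNorm P.asIdeal : ℝ) ^ t
  /-- The point attached. -/
  pt : (Σ P : {P : HeightOneSpectrum (𝓞 K) // Nat.Coprime (Ideal.absNorm P.asIdeal) h}, Fin (n P.1)) →
    H27Zeta.ClPt X
  pt_inj : Function.Injective pt
  pt_mem : ∀ a, (pt a).1 ∈ V
  pt_norm : ∀ a, H27Zeta.ptNorm (pt a) = Ideal.absNorm a.1.1.asIdeal
  cover : ∀ x : H27Zeta.ClPt X, x.1 ∈ V → (H27Zeta.ptNorm x).Prime → Nat.Coprime (H27Zeta.ptNorm x) h →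
    x ∈ Set.range pt

attribute [instance] HorPiece.instField HorPiece.instNF

theorem finiteType_int_section {X : Scheme.{u}} (f : X ⟶ Spec (CommRingCat.of (ULift.{u} ℤ)))
    [LocallyOfFiniteType f] {U : X.Opens} (hU : IsAffineOpen U) : Algebra.FiniteType ℤ Γ(X, U) := by
  haveI : LocallyOfFiniteType (Spec.map (Spec.preimage (hU.fromSpec ≫ f))) := by rw [Spec.map_preimage]; infer_instance
  have h1 : (Spec.preimage (hU.fromSpec ≫ f)).hom.FiniteType :=
    (HasRingHomProperty.Spec_iff (P := @LocallyOfFiniteType)).mp inferInstance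
  have h2 := h1.comp (RingHom.FiniteType.of_surjective ((ULift.ringEquiv.{0, u} (R := ℤ)).symm : ℤ →+* ULift.{u} ℤ)
    (ULift.ringEquiv.{0, u} (R := ℤ)).symm.surjective)
  rw [← RingHom.finiteType_algebraMap, show algebraMap ℤ Γ(X, U) =
    (Spec.preimage (hU.fromSpec ≫ f)).hom.comp ((ULift.ringEquiv.{0, u} (R := ℤ)).symm : ℤ →+* ULift.{u} ℤ) from
      RingHom.ext_int _ _]
  exact h2

theorem isClosed_fromSpec {X : Scheme.{u}} [JacobsonSpace X] {V : X.Opens} (hV : IsAffineOpen V)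
    (m : MaximalSpectrum Γ(X, V)) :
    IsClosed ({hV.fromSpec m.toPrimeSpectrum} : Set X) := by
  refine isClosed_singleton_of_isLocallyClosed_singleton ?_
  refine ⟨Set.range hV.fromSpec, closure {hV.fromSpec m.toPrimeSpectrum},
    hV.fromSpec.isOpenEmbedding.isOpen_range, isClosed_closure, Set.Subset.antisymm ?_ ?_⟩
  · rintro _ rfl
    exact ⟨⟨_, rfl⟩, subset_closure rfl⟩
  · rintro _ ⟨⟨w, rfl⟩, hw⟩
    have h1 : w ∈ closure ({(m.toPrimeSpectrum : Spec Γ(X, V))} : Set (Spec Γ(X, V))) := by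
      rw [hV.fromSpec.isOpenEmbedding.isInducing.closure_eq_preimage_closure_image]
      exact closure_mono (Set.singleton_subset_iff.2 (Set.mem_image_of_mem _ (Set.mem_singleton _))) hw
    have hc : IsClosed ({(m.toPrimeSpectrum : Spec Γ(X, V))} : Set (Spec Γ(X, V))) :=
      (PrimeSpectrum.isClosed_singleton_iff_isMaximal _).2 m.isMaximal
    rw [hc.closure_eq] at h1
    exact congrArg hV.fromSpec (Set.mem_singleton_iff.1 h1)

theorem ptNorm_fromSpec {X : Scheme.{u}} {V : X.Opens} (hV : IsAffineOpen V) (m : MaximalSpectrum Γ(X, V))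
    (x : H27Zeta.ClPt X) (hx : x.1 = hV.fromSpec m.toPrimeSpectrum) :
    H27Zeta.ptNorm x = Nat.card (Γ(X, V) ⧸ m.asIdeal) := by
  rw [H27Zeta.ptNorm, hx, ← H27LangWeil.card_residueField_spec Γ(X, V) m]
  refine Nat.card_congr (Equiv.ofBijective _ ⟨RingHom.injective (hV.fromSpec.residueFieldMap m.toPrimeSpectrum).hom,
    fun y => ?_⟩)
  obtain ⟨z, rfl⟩ := IsLocalRing.residue_surjective y
  obtain ⟨w, rfl⟩ := hV.fromSpec.stalkMap_surjective m.toPrimeSpectrum z
  exact ⟨X.residue _ w, congrArg (fun φ : X.presheaf.stalk _ ⟶ _ => φ.hom w)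
    (Scheme.residue_residueFieldMap hV.fromSpec m.toPrimeSpectrum)⟩

/-- **Existence of a piece**. -/
theorem nonempty_horPiece {X : Scheme.{u}} (f : X ⟶ Spec (CommRingCat.of (ULift.{u} ℤ))) [LocallyOfFiniteType f]
    (η : X) [CharZero (X.residueField η)] (O : Set X) (hO : IsOpen O) (hηO : η ∈ O) (hgen : O ⊆ closure {η}) :
    Nonempty (HorPiece X η O) := by
  classical
  haveI := H27LangWeil.jacobsonSpace_arith f
  obtain ⟨U, hU, hηU, hUO⟩ := H27LangWeil.exists_affine_nhd η hO hηO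
  haveI := finiteType_int_section f hU
  let F := X.residueField η
  let evU : Γ(X, U) →ₐ[ℤ] F := (X.evaluation U η hηU).hom.toIntAlgHom
  haveI : Algebra.EssFiniteType ℤ F := by
    let A := evU.range
    haveI : Algebra.FiniteType ℤ A :=
      Algebra.FiniteType.of_surjective evU.rangeRestrict evU.rangeRestrict_surjective
    haveI : FaithfulSMul A F := (faithfulSMul_iff_algebraMap_injective A F).2 Subtype.val_injective
    haveI : IsFractionRing A F := IsFractionRing.of_field A F fun z => by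
      obtain ⟨p, q, -, hz⟩ := H27LangWeil.evaluation_div hU η hηU z
      exact ⟨⟨_, p, rfl⟩, ⟨_, q, rfl⟩, hz⟩
    haveI : Algebra.EssFiniteType A F := Algebra.EssFiniteType.of_isLocalization F (nonZeroDivisors A)
    exact Algebra.EssFiniteType.comp ℤ A F
  have hT := IsScalarTower.of_algebraMap_eq' (R := ℤ) (S := ℚ) (A := F) (RingHom.ext_int _ _)
  haveI : Algebra.EssFiniteType ℚ F := @Algebra.EssFiniteType.of_comp ℤ ℚ F _ _ _ _ _ _ hT _
  let K := algebraicClosure ℚ F
  haveI : FiniteDimensional ℚ K := H1CAlg.finiteDimensional_algebraicClosure ℚ F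
  haveI : NumberField K := { to_charZero := inferInstance, to_finiteDimensional := inferInstance }
  haveI : Algebra.EssFiniteType K F := Algebra.EssFiniteType.of_comp ℚ K F
  obtain ⟨sb, hsb⟩ := exists_finset_isTranscendenceBasis K F
  have ht : Algebra.trdeg K F = (sb.card : ℕ) := by
    rw [← hsb.cardinalMk_eq_trdeg, Cardinal.mk_coe_finset]
  have hcl : ∀ z : F, IsAlgebraic K z → z ∈ Set.range (algebraMap K F) := fun z hz =>
    ⟨⟨z, mem_algebraicClosure_iff.2 (hz.restrictScalars ℚ)⟩, rfl⟩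
  letI : Algebra (𝓞 K) F := ((algebraMap K F).comp (algebraMap (𝓞 K) K)).toAlgebra
  haveI : IsScalarTower (𝓞 K) K F := IsScalarTower.of_algebraMap_eq' rfl
  haveI : PerfectField K := PerfectField.ofCharZero
  -- shrink so that the integers of `K` are functions
  obtain ⟨S, hS⟩ := (Module.finite_def.1 (inferInstance : Module.Finite ℤ (𝓞 K)))
  choose p q hq hpq using fun g : S => H27LangWeil.evaluation_div hU η hηU (algebraMap (𝓞 K) F g.1)
  set s : Γ(X, U) := ∏ g, q g
  have hs : (X.evaluation U η hηU).hom s ≠ 0 := by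
    rw [map_prod, Finset.prod_ne_zero_iff]; exact fun g _ => hq g
  let V : X.Opens := X.basicOpen s
  have hV : IsAffineOpen V := hU.basicOpen s
  have hηV : η ∈ V := (Scheme.evaluation_ne_zero_iff_mem_basicOpen X η hηU s).1 hs
  have hVU : V ≤ U := X.basicOpen_le s
  have hVO : (V : Set X) ⊆ O := (SetLike.coe_subset_coe.2 hVU).trans hUO
  haveI := finiteType_int_section f hV
  let ev : Γ(X, V) →+* F := (X.evaluation V η hηV).hom
  have hres : ∀ w : Γ(X, U), (X.evaluation U η hηU).hom w =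
      ev ((X.presheaf.map (homOfLE hVU).op).hom w) := fun w =>
    (congrArg (X.residue η).hom (TopCat.Presheaf.germ_res_apply X.presheaf (homOfLE hVU) η hηV w)).symm
  have hsu : IsUnit ((X.presheaf.map (homOfLE hVU).op).hom s) := RingedSpace.isUnit_res_basicOpen _ s
  have hgen' : ∀ g : S, algebraMap (𝓞 K) F g.1 ∈ ev.range := fun g => by
    obtain ⟨w, hw⟩ := hsu.exists_right_inv
    refine ⟨(X.presheaf.map (homOfLE hVU).op).hom (p g * ∏ j ∈ Finset.univ.erase g, q j) * w, ?_⟩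
    have h1 : ev ((X.presheaf.map (homOfLE hVU).op).hom s) * ev w = 1 := by rw [← map_mul, hw, map_one]
    rw [map_mul, ← hres, map_mul, hpq g, eq_div_iff (hq g)]
    rw [← hres, show s = q g * ∏ j ∈ Finset.univ.erase g, q j from
      (Finset.mul_prod_erase _ _ (Finset.mem_univ g)).symm, map_mul] at h1
    linear_combination (X.evaluation U η hηU).hom (p g) * h1
  have hint : ∀ o : 𝓞 K, algebraMap (𝓞 K) F o ∈ ev.range := by
    intro o
    have ho : o ∈ Submodule.span ℤ (S : Set (𝓞 K)) := by rw [hS]; trivial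
    induction ho using Submodule.span_induction with
    | mem g hg => exact hgen' ⟨g, hg⟩
    | zero => rw [map_zero]; exact zero_mem _
    | add a b _ _ ha hb => rw [map_add]; exact add_mem ha hb
    | smul z a _ ha => rw [map_zsmul]; exact zsmul_mem ha z
  let AR : Subalgebra (𝓞 K) F := { ev.range.toSubsemiring with algebraMap_mem' := hint }
  have hAR : ∀ z : F, z ∈ AR ↔ z ∈ ev.range := fun z => Iff.rfl
  have hfg : AR.FG := by
    obtain ⟨G, hG⟩ := Algebra.FiniteType.out (R := ℤ) (A := Γ(X, V))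
    refine ⟨G.image ev, le_antisymm (Algebra.adjoin_le ?_) fun z hz => ?_⟩
    · intro z hz
      obtain ⟨w, -, rfl⟩ := Finset.mem_image.1 (Finset.mem_coe.1 hz)
      exact ⟨w, rfl⟩
    · obtain ⟨w, rfl⟩ := (hAR z).1 hz
      have hw : w ∈ Algebra.adjoin ℤ (G : Set Γ(X, V)) := by rw [hG]; trivial
      induction hw using Algebra.adjoin_induction with
      | mem g hg => exact Algebra.subset_adjoin (Finset.mem_coe.2 (Finset.mem_image_of_mem _ hg))
      | algebraMap c => rw [eq_intCast, map_intCast]; exact intCast_mem _ c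
      | add a b _ _ ha hb => rw [map_add]; exact add_mem (ha ⟨a, rfl⟩) (hb ⟨b, rfl⟩)
      | mul a b _ _ ha hb => rw [map_mul]; exact mul_mem (ha ⟨a, rfl⟩) (hb ⟨b, rfl⟩)
  have hfrac : ∀ z : F, ∃ a ∈ AR, ∃ b ∈ AR, b ≠ 0 ∧ z = a / b := fun z => by
    obtain ⟨a, b, hb, hz⟩ := H27LangWeil.evaluation_div hV η hηV z
    exact ⟨ev a, ⟨a, rfl⟩, ev b, ⟨b, rfl⟩, hb, hz⟩
  obtain ⟨h₀, C, hh₀, hest⟩ := H27LangWeil.langWeilEst.{u, u} (R := 𝓞 K) (K := K) sb.card hcl ht AR hfg hfrac
  set hN : ℕ := Ideal.absNorm (Ideal.span {h₀})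
  have hNpos : 0 < hN := Nat.pos_of_ne_zero fun h => hh₀ (by
    rwa [Ideal.absNorm_eq_zero_iff, Ideal.span_singleton_eq_bot] at h)
  haveI : ∀ P : HeightOneSpectrum (𝓞 K), P.asIdeal.IsMaximal := fun P => P.isMaximal
  letI : ∀ P : HeightOneSpectrum (𝓞 K), Field (𝓞 K ⧸ P.asIdeal) := fun P => Ideal.Quotient.field _
  haveI : ∀ P : HeightOneSpectrum (𝓞 K), Finite (𝓞 K ⧸ P.asIdeal) := fun P =>
    Ring.HasFiniteQuotients.finiteQuotient P.ne_bot
  have hcard : ∀ P : HeightOneSpectrum (𝓞 K), Nat.card (𝓞 K ⧸ P.asIdeal) = Ideal.absNorm P.asIdeal := fun P => by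
    simp [Ideal.absNorm_apply, Submodule.cardQuot_apply]
  let n : HeightOneSpectrum (𝓞 K) → ℕ := fun P => Nat.card (AR →ₐ[𝓞 K] (𝓞 K ⧸ P.asIdeal))
  have hgood : ∀ P : HeightOneSpectrum (𝓞 K), Nat.Coprime (Ideal.absNorm P.asIdeal) hN →
      algebraMap (𝓞 K) (𝓞 K ⧸ P.asIdeal) h₀ ≠ 0 := fun P hP h0 => by
    rw [Ideal.Quotient.algebraMap_eq, Ideal.Quotient.eq_zero_iff_mem] at h0
    have hdvd := Ideal.absNorm_dvd_absNorm_of_le ((Ideal.span_singleton_le_iff_mem P.asIdeal).2 h0)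
    have := H27LangWeil.two_le_absNorm P
    have := Nat.Coprime.eq_one_of_dvd hP hdvd
    omega
  have hn : ∀ P : {P : HeightOneSpectrum (𝓞 K) // Nat.Coprime (Ideal.absNorm P.asIdeal) hN},
      Nonempty (Fin (n P.1) ≃ (AR →ₐ[𝓞 K] (𝓞 K ⧸ P.1.asIdeal))) := fun P => by
    haveI := (hest (𝓞 K ⧸ P.1.asIdeal) (hgood P.1 P.2)).1
    exact ⟨(Finite.equivFin _).symm⟩
  let toA : Γ(X, V) →+* AR := ev.codRestrict AR fun w => ⟨w, rfl⟩
  have htoA : Function.Surjective toA := fun z => by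
    obtain ⟨w, hw⟩ := (hAR z.1).1 z.2
    exact ⟨w, Subtype.ext hw⟩
  let ψ : ∀ P : HeightOneSpectrum (𝓞 K), (AR →ₐ[𝓞 K] (𝓞 K ⧸ P.asIdeal)) → (Γ(X, V) →+* 𝓞 K ⧸ P.asIdeal) :=
    fun P φ => φ.toRingHom.comp toA
  have hψsurj : ∀ P φ, Function.Surjective (ψ P φ) := fun P φ y => by
    obtain ⟨o, rfl⟩ := Ideal.Quotient.mk_surjective y
    obtain ⟨w, hw⟩ := htoA (algebraMap (𝓞 K) AR o)
    exact ⟨w, ((congrArg φ hw).trans (φ.commutes o))⟩
  let mx : ∀ P φ, MaximalSpectrum Γ(X, V) := fun P φ =>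
    ⟨RingHom.ker (ψ P φ), H27LangWeil.isMaximal_ker_of_finite _⟩
  let eq : ∀ P : {P : HeightOneSpectrum (𝓞 K) // Nat.Coprime (Ideal.absNorm P.asIdeal) hN},
      Fin (n P.1) ≃ (AR →ₐ[𝓞 K] (𝓞 K ⧸ P.1.asIdeal)) := fun P => (hn P).some
  let pt : (Σ P : {P : HeightOneSpectrum (𝓞 K) // Nat.Coprime (Ideal.absNorm P.asIdeal) hN}, Fin (n P.1)) →
      H27Zeta.ClPt X := fun a =>
    ⟨hV.fromSpec (mx a.1.1 (eq a.1 a.2)).toPrimeSpectrum, isClosed_fromSpec hV _⟩
  refine ⟨{ V := V, mem := hηV, sub := hVO, K := K, t := sb.card, h := hN, hpos := hNpos, C := C, n := n,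
            est := fun P hP => ?_, pt := pt, pt_inj := ?_, pt_mem := fun a => ?_, pt_norm := fun a => ?_,
            cover := fun x hxV hx hxh => ?_ }⟩
  · have h2 := (hest (𝓞 K ⧸ P.asIdeal) (hgood P hP)).2
    rw [hcard P] at h2
    exact h2
  · rintro ⟨P, i⟩ ⟨P', i'⟩ h
    have h' : (mx P.1 (eq P i)).toPrimeSpectrum = (mx P'.1 (eq P' i')).toPrimeSpectrum :=
      (hV.fromSpec.isOpenEmbedding.injective : Function.Injective hV.fromSpec)
        (show hV.fromSpec (mx P.1 (eq P i)).toPrimeSpectrum = hV.fromSpec (mx P'.1 (eq P' i')).toPrimeSpectrum from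
          (congrArg (fun x : H27Zeta.ClPt X => x.1) h :))
    have hker : RingHom.ker (ψ P.1 (eq P i)) = RingHom.ker (ψ P'.1 (eq P' i')) :=
      congrArg PrimeSpectrum.asIdeal h'
    obtain ⟨σ', hσ'⟩ := H27LangWeil.exists_factor_hom (ψ P.1 (eq P i)) (hψsurj _ _) (ψ P'.1 (eq P' i')) hker
    have hσ : ∀ z : AR, σ' (eq P i z) = eq P' i' z := fun z => by
      obtain ⟨w, rfl⟩ := htoA z
      exact hσ' w
    have hmk : ∀ o : 𝓞 K, σ' (Ideal.Quotient.mk P.1.asIdeal o) = Ideal.Quotient.mk P'.1.asIdeal o := fun o => by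
      have := hσ (algebraMap (𝓞 K) AR o)
      rwa [AlgHom.commutes, AlgHom.commutes] at this
    have hPle : P.1.asIdeal ≤ P'.1.asIdeal := fun o ho => by
      rw [← Ideal.Quotient.eq_zero_iff_mem, ← hmk, Ideal.Quotient.eq_zero_iff_mem.2 ho, map_zero]
    obtain rfl : P = P' := Subtype.ext (HeightOneSpectrum.ext (P.1.isMaximal.eq_of_le P'.1.isPrime.ne_top hPle))
    have hid : σ' = RingHom.id _ := Ideal.Quotient.ringHom_ext (RingHom.ext hmk)
    obtain rfl : i = i' := (eq P).injective (AlgHom.ext fun z => by rw [← hσ z, hid]; rfl)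
    rfl
  · exact hV.range_fromSpec.le ⟨_, rfl⟩
  · rw [ptNorm_fromSpec hV (mx a.1.1 (eq a.1 a.2)) (pt a) rfl, ← hcard]
    exact Nat.card_congr (RingHom.quotientKerEquivOfSurjective (hψsurj _ _)).toEquiv
  · obtain ⟨w, hw⟩ := hV.range_fromSpec.ge hxV
    have hwcl : IsClosed ({w} : Set (Spec Γ(X, V))) := by
      have := x.2.preimage hV.fromSpec.continuous
      convert this
      ext z
      exact ⟨fun h => by rw [Set.mem_singleton_iff.1 h]; exact hw,
        fun h => hV.fromSpec.isOpenEmbedding.injective ((Set.mem_singleton_iff.1 h).trans hw.symm)⟩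
    let m : MaximalSpectrum Γ(X, V) := ⟨w.asIdeal, (PrimeSpectrum.isClosed_singleton_iff_isMaximal w).1 hwcl⟩
    haveI := m.isMaximal
    letI : Field (Γ(X, V) ⧸ m.asIdeal) := Ideal.Quotient.field _
    have hmN : H27Zeta.ptNorm x = Nat.card (Γ(X, V) ⧸ m.asIdeal) := ptNorm_fromSpec hV m x hw.symm
    have hkerle : RingHom.ker toA ≤ m.asIdeal := fun z hz => by
      have hz' : ev z = 0 := congrArg Subtype.val hz
      obtain ⟨j, hj⟩ := H27LangWeil.nilpotent_of_evaluation_eq_zero hV η hηV (hVO.trans hgen) z hz'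
      exact m.isMaximal.isPrime.mem_of_pow_mem j (hj ▸ zero_mem _)
    let θ : AR →+* Γ(X, V) ⧸ m.asIdeal :=
      toA.liftOfSurjective htoA ⟨Ideal.Quotient.mk m.asIdeal, by rw [Ideal.mk_ker]; exact hkerle⟩
    have hθ : ∀ z, θ (toA z) = Ideal.Quotient.mk m.asIdeal z :=
      fun z => toA.liftOfSurjective_comp_apply htoA _ z
    let ρ : 𝓞 K →+* Γ(X, V) ⧸ m.asIdeal := θ.comp (algebraMap (𝓞 K) AR)
    haveI : Finite (Γ(X, V) ⧸ m.asIdeal) := Nat.finite_of_card_ne_zero (hmN ▸ hx.ne_zero)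
    haveI := Fact.mk hx
    have hρ : Function.Surjective ρ := by
      have hsub : (ρ.range : Subring (Γ(X, V) ⧸ m.asIdeal)).toAddSubgroup = ⊤ := by
        haveI hp : Fact (Nat.card (Γ(X, V) ⧸ m.asIdeal)).Prime := ⟨hmN ▸ hx⟩
        refine (AddSubgroup.eq_bot_or_eq_top_of_prime_card _).resolve_left fun h0 => ?_
        have h1 : (1 : Γ(X, V) ⧸ m.asIdeal) ∈ ρ.range.toAddSubgroup := ρ.range.one_mem
        rw [h0] at h1
        exact one_ne_zero (AddSubgroup.mem_bot.1 h1)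
      intro y
      have : y ∈ ρ.range.toAddSubgroup := hsub ▸ AddSubgroup.mem_top y
      exact this
    haveI hker : (RingHom.ker ρ).IsMaximal := RingHom.ker_isMaximal_of_surjective ρ hρ
    let P : HeightOneSpectrum (𝓞 K) := ⟨RingHom.ker ρ, hker.isPrime, fun h0 => by
      haveI : Infinite (𝓞 K) := inferInstance
      haveI : Finite (𝓞 K ⧸ RingHom.ker ρ) := Finite.of_injective _ (RingHom.kerLift_injective ρ)
      rw [h0] at this
      exact not_finite_iff_infinite.2 ‹Infinite (𝓞 K)› (Finite.of_equiv _ (RingEquiv.quotientBot (𝓞 K)).toEquiv)⟩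
    let e : (𝓞 K ⧸ P.asIdeal) ≃+* (Γ(X, V) ⧸ m.asIdeal) := RingHom.quotientKerEquivOfSurjective hρ
    have hP : Ideal.absNorm P.asIdeal = H27Zeta.ptNorm x := by
      rw [← hcard, hmN]; exact Nat.card_congr e.toEquiv
    let φ : AR →ₐ[𝓞 K] (𝓞 K ⧸ P.asIdeal) :=
      { e.symm.toRingHom.comp θ with commutes' := fun o => e.injective (by
          change e (e.symm (θ (algebraMap (𝓞 K) AR o))) = e (algebraMap (𝓞 K) (𝓞 K ⧸ P.asIdeal) o)
          rw [RingEquiv.apply_symm_apply]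
          rfl) }
    let P' : {P : HeightOneSpectrum (𝓞 K) // Nat.Coprime (Ideal.absNorm P.asIdeal) hN} := ⟨P, hP.symm ▸ hxh⟩
    refine ⟨⟨P', (eq P').symm φ⟩, Subtype.ext ?_⟩
    change hV.fromSpec (mx P (eq P' ((eq P').symm φ))).toPrimeSpectrum = x.1
    rw [Equiv.apply_symm_apply, ← hw]
    refine congrArg hV.fromSpec (PrimeSpectrum.ext ?_)
    change RingHom.ker (ψ P φ) = m.asIdeal
    ext z
    rw [RingHom.mem_ker]
    change e.symm (θ (toA z)) = 0 ↔ _
    rw [hθ, map_eq_zero_iff _ e.symm.injective, Ideal.Quotient.eq_zero_iff_mem]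

end Groth.Agent.H27Mero
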