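import Groth.Agent.H27Mero.Euler
import Groth.Agent.H27LangWeil.NumberFieldPrimes
import Groth.Agent.H27Dedekind.ZetaCont
import Mathlib

/-!
# The prime series of a number field
-/

set_option autoImplicit false
universe u

noncomputable section

open NumberField IsDedekindDomain Filter Topology UniqueFactorizationMonoid
open scoped nonZeroDivisors

namespace Groth.Agent.H27Mero

variable (K : Type u) [Field K] [NumberField K]

/-- The norm of a prime. -/
abbrev nfNorm (P : HeightOneSpectrum (𝓞 K)) : ℕ := Ideal.absNorm P.asIdeal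

/-- The ideal of an effective cycle. -/
def cycIdeal (α : HeightOneSpectrum (𝓞 K) →₀ ℕ) : Ideal (𝓞 K) := α.prod fun P m => P.asIdeal ^ m

theorem normalizedFactors_cycIdeal (α : HeightOneSpectrum (𝓞 K) →₀ ℕ) :
    normalizedFactors (cycIdeal K α) = (Finsupp.toMultiset α).map HeightOneSpectrum.asIdeal := by
  have h : cycIdeal K α = ((Finsupp.toMultiset α).map HeightOneSpectrum.asIdeal).prod := by
    rw [Finsupp.toMultiset_map, Finsupp.prod_toMultiset, Finsupp.prod_mapDomain_index (fun _ => pow_zero _)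
      (fun _ _ _ => pow_add _ _ _)]
    rfl
  rw [h, normalizedFactors_prod_of_prime]
  intro p hp
  obtain ⟨P, -, rfl⟩ := Multiset.mem_map.1 hp
  exact P.prime

theorem cycIdeal_injective : Function.Injective (cycIdeal K) := fun α β h => by
  have h1 := congrArg normalizedFactors h
  rw [normalizedFactors_cycIdeal, normalizedFactors_cycIdeal] at h1
  classical
  have h2 := Multiset.map_injective (fun P Q h => HeightOneSpectrum.ext h) h1
  rw [← Finsupp.toMultiset_toFinsupp α, ← Finsupp.toMultiset_toFinsupp β, h2]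

theorem absNorm_cycIdeal (α : HeightOneSpectrum (𝓞 K) →₀ ℕ) :
    Ideal.absNorm (cycIdeal K α) = H27Zeta.cycNorm (nfNorm K) α := by
  simp only [cycIdeal, H27Zeta.cycNorm, Finsupp.prod, map_prod, map_pow]

theorem cycIdeal_surjective {I : Ideal (𝓞 K)} (hI : I ≠ 0) : ∃ α, cycIdeal K α = I := by
  induction I using UniqueFactorizationMonoid.induction_on_prime with
  | h₁ => exact absurd rfl hI
  | h₂ J hJ => exact ⟨0, by simpa [cycIdeal] using (isUnit_iff_eq_one.1 hJ).symm⟩
  | h₃ J p hJ hp ih =>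
    obtain ⟨α, rfl⟩ := ih hJ
    refine ⟨Finsupp.single ⟨p, Ideal.isPrime_of_prime hp, hp.ne_zero⟩ 1 + α, ?_⟩
    simp only [cycIdeal]
    refine (Finsupp.prod_add_index' (fun _ => pow_zero _) (fun _ _ _ => pow_add _ _ _)).trans ?_
    refine congrArg (· * _) ?_
    exact (Finsupp.prod_single_index
      (h := fun (P : HeightOneSpectrum (𝓞 K)) (m : ℕ) => P.asIdeal ^ m) (pow_zero _)).trans (pow_one p)

theorem card_ideal_eq_card_cyc {n : ℕ} (hn : n ≠ 0) :
    Nat.card {I : Ideal (𝓞 K) // Ideal.absNorm I = n} =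
      Nat.card {α : HeightOneSpectrum (𝓞 K) →₀ ℕ // H27Zeta.cycNorm (nfNorm K) α = n} := by
  refine (Nat.card_eq_of_bijective
    (fun α => ⟨cycIdeal K α.1, by rw [absNorm_cycIdeal]; exact α.2⟩) ⟨fun α β h => ?_, fun I => ?_⟩).symm
  · exact Subtype.ext (cycIdeal_injective K (congrArg Subtype.val h))
  · obtain ⟨α, hα⟩ := cycIdeal_surjective K (I := I.1) fun h0 => hn (by rw [← I.2, h0]; simp)
    exact ⟨⟨α, by rw [← absNorm_cycIdeal, hα]; exact I.2⟩, Subtype.ext hα⟩

theorem summable_primes {α : ℝ} (hα : 1 < α) :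
    Summable fun P : HeightOneSpectrum (𝓞 K) => (nfNorm K P : ℝ) ^ (-α) := by
  classical
  let a : ℕ → ℝ := fun n => Nat.card {I : Ideal (𝓞 K) // Ideal.absNorm I = n}
  obtain ⟨C, hC⟩ := H27Dedekind.exists_idealCount K
  have ha : LSeriesSummable (fun n => (a n : ℂ)) (α : ℂ) := by
    refine LSeriesSummable_of_sum_norm_bigO_and_nonneg (r := 1) ?_ (fun n => Nat.cast_nonneg _) zero_le_one
      (by simpa using hα)
    refine Asymptotics.IsBigO.of_bound (|C| + |dedekindZeta_residue K|) ?_
    filter_upwards [eventually_ge_atTop 1] with n hn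
    have hn1 : (1 : ℝ) ≤ n := Nat.one_le_cast.2 hn
    rw [Real.rpow_one, Real.norm_eq_abs, Real.norm_of_nonneg (Nat.cast_nonneg n),
      abs_of_nonneg (Finset.sum_nonneg fun i _ => Nat.cast_nonneg _)]
    have hcount : ∑ k ∈ Finset.Icc 1 n, a k = Nat.card {I : (Ideal (𝓞 K))⁰ // (Ideal.absNorm (I : Ideal (𝓞 K)) : ℝ) ≤ n} := by
      simp only [Nat.cast_le, a, ← Nat.cast_sum]
      congr 1
      rw [← add_left_inj 1, ← Ideal.card_norm_le_eq_card_norm_le_add_one,
        show Finset.Icc 1 n = Finset.Ioc 0 n from Finset.Icc_succ_left_eq_Ioc _ _,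
        show 1 = Nat.card {I : Ideal (𝓞 K) // Ideal.absNorm I = 0} by simp [Ideal.absNorm_eq_zero_iff],
        Finset.sum_Ioc_add_eq_sum_Icc (n.zero_le),
        ← Finset.card_preimage_eq_sum_card_image_eq (fun k _ ↦ Ideal.finite_setOfPred_absNorm_eq k)]
      simp [Set.coe_eq_subtype]
    rw [hcount]
    have h1 := (abs_le.1 (hC n hn1)).2
    have h2 : C * (n : ℝ) ^ (1 - 1 / (Module.finrank ℚ K : ℝ)) ≤ |C| * n :=
      mul_le_mul (le_abs_self C) (Real.rpow_le_self_of_one_le hn1 (by
        have : 0 ≤ 1 / (Module.finrank ℚ K : ℝ) := by positivity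
        linarith)) (by positivity) (abs_nonneg C)
    have h3 : dedekindZeta_residue K * n ≤ |dedekindZeta_residue K| * n :=
      mul_le_mul_of_nonneg_right (le_abs_self _) (Nat.cast_nonneg n)
    linarith
  haveI : ∀ n, Finite {P : HeightOneSpectrum (𝓞 K) // nfNorm K P = n} := fun n =>
    (H27LangWeil.finite_absNorm_eq n).to_subtype
  rw [← (Equiv.sigmaFiberEquiv (nfNorm K)).summable_iff, Function.comp_def,
    summable_sigma_of_nonneg fun x => by positivity]
  refine ⟨fun n => Summable.of_finite, ?_⟩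
  refine Summable.of_nonneg_of_le (fun n => tsum_nonneg fun x => by positivity) (fun n => ?_) ha.norm
  cases nonempty_fintype {P : HeightOneSpectrum (𝓞 K) // nfNorm K P = n}
  simp only [Equiv.sigmaFiberEquiv_apply]
  rw [tsum_fintype, Finset.sum_congr rfl (g := fun _ => (n : ℝ) ^ (-α)) (fun x _ => by rw [x.2]),
    Finset.sum_const, nsmul_eq_mul, Finset.card_univ, ← Nat.card_eq_fintype_card, LSeries.norm_term_eq]
  split_ifs with hn
  · subst hn
    haveI : IsEmpty {P : HeightOneSpectrum (𝓞 K) // nfNorm K P = 0} := ⟨fun x => by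
      have h1 : 2 ≤ nfNorm K x.1 := H27LangWeil.two_le_absNorm x.1
      have h2 := x.2
      omega⟩
    rw [Nat.card_of_isEmpty, Nat.cast_zero, zero_mul]
  · simp only [a, Complex.ofReal_natCast, Complex.norm_natCast, Complex.ofReal_re]
    rw [Real.rpow_neg (Nat.cast_nonneg n), ← div_eq_mul_inv]
    gcongr
    haveI : Finite {I : Ideal (𝓞 K) // Ideal.absNorm I = n} :=
      (Ideal.finite_setOfPred_absNorm_eq (S := 𝓞 K) n).to_subtype
    exact_mod_cast Nat.card_le_card_of_injective
      (fun x : {P : HeightOneSpectrum (𝓞 K) // nfNorm K P = n} =>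
        (⟨x.1.asIdeal, x.2⟩ : {I : Ideal (𝓞 K) // Ideal.absNorm I = n}))
      fun x y h => Subtype.ext (HeightOneSpectrum.ext (congrArg Subtype.val h))

theorem dedekindZeta_eq_exp {s : ℂ} (hs : 1 < s.re) :
    NumberField.dedekindZeta K s =
      Complex.exp ((∑' P : HeightOneSpectrum (𝓞 K), (nfNorm K P : ℂ) ^ (-s)) + logRem (nfNorm K) s) := by
  refine Eq.trans ?_ (lseries_eq_exp (nfNorm K) H27LangWeil.two_le_absNorm H27LangWeil.finite_absNorm_eq
    (fun n => Nat.card {α : HeightOneSpectrum (𝓞 K) →₀ ℕ // H27Zeta.cycNorm (nfNorm K) α = n}) (fun _ => rfl) s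
    (by linarith) (summable_primes K hs))
  unfold NumberField.dedekindZeta
  exact LSeries_congr (fun {n} hn => congrArg Nat.cast (card_ideal_eq_card_cyc K hn)) s

end Groth.Agent.H27Mero
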