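import Groth.Agent.H27Mero.Euler
import Groth.Agent.H27LangWeil.Components
import Groth.Agent.H27Zeta.ClosedPoints
import Groth.Agent.H27Zeta.PointBoundField
import Groth.Agent.H27Zeta.PointCount
import Mathlib

/-!
# The prime series of a scheme over a finite field
-/

set_option autoImplicit false
set_option maxHeartbeats 800000
universe u

noncomputable section

open CategoryTheory AlgebraicGeometry Filter Topology

namespace Groth.Agent.H27Mero

variable {k : Type u} [Field k] [Finite k] {Y : Scheme.{u}} (g : Y ⟶ Spec (CommRingCat.of k))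
  [LocallyOfFiniteType g] [QuasiCompact g]

omit [QuasiCompact g] in
theorem ptNorm_eq_pow (x : H27Zeta.ClPt Y) :
    H27Zeta.ptNorm x = Nat.card k ^ EGA4loc.residueDegree g x.1 ∧ 1 ≤ EGA4loc.residueDegree g x.1 := by
  letI alg : ∀ x : Y, Algebra k (Y.residueField x) := fun x =>
    (Spec.preimage (Y.fromSpecResidueField x ≫ g) : CommRingCat.of k ⟶ Y.residueField x).hom.toAlgebra
  have halg : ∀ x : Y, Spec.map (CommRingCat.ofHom (algebraMap k (Y.residueField x))) =
      Y.fromSpecResidueField x ≫ g := fun x => Spec.map_preimage _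
  rw [H27Zeta.residueDegree_eq_finrank g halg]
  haveI := H27Zeta.finite_residueField_of_isClosed (H27Zeta.toInt g) x.2
  haveI : Module.Finite k (Y.residueField x.1) := Module.Finite.of_finite
  exact ⟨Module.natCard_eq_pow_finrank, Module.finrank_pos⟩

theorem hasSum_log_model {m : ℕ} (hm : 0 < m) (w : ℂ) (hw : ‖w‖ < 1) :
    HasSum (fun e : ℕ => if m ∣ e then (m : ℂ) / e * w ^ e else 0) (-Complex.log (1 - w ^ m)) := by
  have hwm : ‖w ^ m‖ < 1 := by rw [norm_pow]; exact pow_lt_one₀ (norm_nonneg _) hw hm.ne'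
  rw [← Function.Injective.hasSum_iff (g := fun i : ℕ => m * i) (fun a b h => Nat.eq_of_mul_eq_mul_left hm h)
    (fun e he => if_neg fun ⟨i, hi⟩ => he ⟨i, hi.symm⟩)]
  refine (Complex.hasSum_taylorSeries_neg_log hwm).congr_fun fun i => ?_
  simp only [Function.comp_apply, dvd_mul_right, if_true]
  rcases Nat.eq_zero_or_pos i with rfl | hi
  · simp
  · push_cast
    rw [pow_mul, div_mul_eq_mul_div, mul_div_mul_left _ _ (Nat.cast_ne_zero.2 hm.ne' : (m : ℂ) ≠ 0)]

include g in
/-- **Vertical prime series**. -/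
theorem exists_vertical_series (r : ℕ) (hr1 : 1 ≤ r) (hr : topologicalKrullDim Y = r) :
    ∃ (ι : Type u) (_ : Fintype ι) (m : ι → ℕ), (∀ i, 1 ≤ m i) ∧
      (IsEmpty ι → ∀ σ : ℝ, (r : ℝ) - 1 / 2 < σ →
        Summable fun x : H27Zeta.ClPt Y => (H27Zeta.ptNorm x : ℝ) ^ (-σ)) ∧
      ∃ H : ℂ → ℂ, DifferentiableOn ℂ H {s | (r : ℝ) - 1 / 2 < s.re} ∧ ∀ s : ℂ, (r : ℝ) < s.re →
        ∑' x : H27Zeta.ClPt Y, (H27Zeta.ptNorm x : ℂ) ^ (-s) =
          (∑ i, -Complex.log (1 - ((Nat.card k ^ m i : ℕ) : ℂ) ^ ((r : ℂ) - s))) + H s := by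
  classical
  obtain ⟨T, m, C, c, hC, -, hm, hest⟩ := H27LangWeil.exists_componentEstimate g r hr
  set q := Nat.card k
  have hq : 2 ≤ q := Finite.one_lt_card
  have hq1 : (1 : ℝ) ≤ q := Nat.one_le_cast.2 (by omega)
  have hq0 : (0 : ℝ) < q := by linarith
  set main : ℕ → ℝ := fun e => ∑ Z ∈ T, if m Z ∣ e then (m Z : ℝ) * (q : ℝ) ^ (e * r) else 0
  set C₁ : ℝ := T.card * C + c
  set M : ℝ := (∑ Z ∈ T, (m Z : ℝ)) + C₁
  have hC₁ : 0 ≤ C₁ := by positivity
  have hM : 0 ≤ M := by positivity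
  have hN : ∀ e : ℕ, e ≠ 0 → |(Zeta.nPts g e : ℝ) - main e| ≤ C₁ * (q : ℝ) ^ ((e : ℝ) * ((r : ℝ) - 1 / 2)) := by
    intro e he
    obtain ⟨N, w, hN, -, hw, hZ⟩ := hest e he
    set Q : ℝ := (q : ℝ) ^ e
    have hQ1 : 1 ≤ Q := one_le_pow₀ hq1
    have hs : 0 < Real.sqrt Q := Real.sqrt_pos.2 (by linarith)
    have hpow : (q : ℝ) ^ ((e : ℝ) * ((r : ℝ) - 1 / 2)) = Q ^ r / Real.sqrt Q := by
      rw [Real.rpow_mul hq0.le, Real.rpow_natCast, Real.rpow_sub (by linarith), Real.rpow_natCast,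
        ← Real.sqrt_eq_rpow]
    have hwle : (w : ℝ) ≤ c * (Q ^ r / Real.sqrt Q) := by
      refine (Nat.cast_le.2 hw).trans ?_
      push_cast
      refine mul_le_mul_of_nonneg_left ?_ (Nat.cast_nonneg c)
      rw [← hpow, Real.rpow_mul hq0.le, Real.rpow_natCast, ← Real.rpow_natCast ((q : ℝ) ^ e) (r - 1),
        Nat.cast_sub hr1, Nat.cast_one]
      exact Real.rpow_le_rpow_of_exponent_le hQ1 (by linarith)
    have hterm : ∀ Z ∈ T, |(N Z : ℝ) - if m Z ∣ e then (m Z : ℝ) * (q : ℝ) ^ (e * r) else 0| ≤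
        C * (Q ^ r / Real.sqrt Q) := by
      intro Z hZ'
      split_ifs with hd
      · rw [pow_mul, ← mul_div_assoc, le_div_iff₀ hs]
        exact (hZ Z hZ').1 hd
      · rw [(hZ Z hZ').2 hd, Nat.cast_zero, sub_zero, abs_zero]
        positivity
    rw [hpow, hN]
    push_cast
    rw [show (∑ Z ∈ T, (N Z : ℝ)) + w - main e = (∑ Z ∈ T, ((N Z : ℝ) - if m Z ∣ e then
      (m Z : ℝ) * (q : ℝ) ^ (e * r) else 0)) + w by simp only [main, Finset.sum_sub_distrib]; ring]
    refine (abs_add_le _ _).trans ?_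
    rw [abs_of_nonneg (Nat.cast_nonneg w : (0 : ℝ) ≤ w), show C₁ * (Q ^ r / Real.sqrt Q) =
      T.card * (C * (Q ^ r / Real.sqrt Q)) + c * (Q ^ r / Real.sqrt Q) by simp only [C₁]; ring]
    refine add_le_add ((Finset.abs_sum_le_sum_abs _ _).trans ((Finset.sum_le_sum hterm).trans_eq ?_)) hwle
    rw [Finset.sum_const, nsmul_eq_mul]
  have hNle : ∀ e : ℕ, e ≠ 0 → (Zeta.nPts g e : ℝ) ≤ M * (q : ℝ) ^ (e * r) := by
    intro e he
    have h1 := (abs_le.1 (hN e he)).2
    have h2 : main e ≤ (∑ Z ∈ T, (m Z : ℝ)) * (q : ℝ) ^ (e * r) := by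
      rw [Finset.sum_mul]
      refine Finset.sum_le_sum fun Z _ => ?_
      split_ifs <;> first | exact le_rfl | positivity
    have h3 : (q : ℝ) ^ ((e : ℝ) * ((r : ℝ) - 1 / 2)) ≤ (q : ℝ) ^ (e * r) := by
      rw [← Real.rpow_natCast, Nat.cast_mul]
      exact Real.rpow_le_rpow_of_exponent_le hq1 (by nlinarith [(Nat.cast_nonneg e : (0 : ℝ) ≤ e)])
    have h4 := mul_le_mul_of_nonneg_left h3 hC₁
    simp only [M, add_mul]
    linarith
  -- the coefficients
  let a : ℕ → ℕ := fun e => Nat.card {x : H27Zeta.ClPt Y // EGA4loc.residueDegree g x.1 = e}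
  have ha0 : a 0 = 0 := by
    haveI : IsEmpty {x : H27Zeta.ClPt Y // EGA4loc.residueDegree g x.1 = 0} := ⟨fun x => by
      have := (ptNorm_eq_pow g x.1).2; have := x.2; omega⟩
    exact Nat.card_of_isEmpty
  have hadeg : ∀ e, a e = Zeta.degCount g e := fun e => Nat.card_congr
    ((Equiv.subtypeSubtypeEquivSubtypeInter (fun x : Y => IsClosed ({x} : Set Y))
      fun x => EGA4loc.residueDegree g x = e).trans (Equiv.subtypeEquivRight fun x => Iff.rfl))
  have hfinfib : ∀ e, Finite {x : H27Zeta.ClPt Y // EGA4loc.residueDegree g x.1 = e} := fun e => by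
    rcases Nat.eq_zero_or_pos e with rfl | he
    · haveI : IsEmpty {x : H27Zeta.ClPt Y // EGA4loc.residueDegree g x.1 = 0} := ⟨fun x => by
        have := (ptNorm_eq_pow g x.1).2; have := x.2; omega⟩
      infer_instance
    · haveI := (H27Zeta.finite_degCount g e he.ne').to_subtype
      exact Finite.of_injective (fun x => (⟨x.1.1, x.2⟩ : {x : Y | EGA4loc.residueDegree g x = e}))
        fun x y h => by simpa [Subtype.ext_iff] using h
  let d : ℕ → ℝ := fun e => (a e : ℝ) - main e / e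
  have hd : ∀ e : ℕ, |d e| ≤ (C₁ + M) * e * (q : ℝ) ^ ((e : ℝ) * ((r : ℝ) - 1 / 2)) := by
    intro e
    rcases Nat.eq_zero_or_pos e with rfl | he
    · simp [d, ha0]
    have he' : (1 : ℝ) ≤ e := Nat.one_le_cast.2 he
    set P : ℝ := (q : ℝ) ^ ((e : ℝ) * ((r : ℝ) - 1 / 2))
    have hP : 0 ≤ P := by positivity
    have hsplit : (Zeta.nPts g e : ℝ) = (e : ℝ) * a e + ∑ i ∈ e.properDivisors, (i : ℝ) * Zeta.degCount g i := by
      rw [Zeta.nPts, Nat.cast_sum, hadeg, ← Nat.cons_self_properDivisors he.ne', Finset.sum_cons]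
      push_cast; ring
    have hsmall : ∑ i ∈ e.properDivisors, (i : ℝ) * Zeta.degCount g i ≤ e * (M * P) := by
      refine (Finset.sum_le_card_nsmul _ _ (M * P) fun i hi => ?_).trans ?_
      · obtain ⟨hid, hlt⟩ := Nat.mem_properDivisors.1 hi
        have hi0 : i ≠ 0 := fun h => by simp [h] at hid; omega
        have h1 : ((i * Zeta.degCount g i : ℕ) : ℝ) ≤ Zeta.nPts g i := Nat.cast_le.2 <|
          Finset.single_le_sum (f := fun j => j * Zeta.degCount g j) (fun j _ => Nat.zero_le _)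
            (Nat.mem_divisors.2 ⟨dvd_rfl, hi0⟩)
        push_cast at h1
        refine h1.trans ((hNle i hi0).trans (mul_le_mul_of_nonneg_left ?_ hM))
        rw [← Real.rpow_natCast, Nat.cast_mul]
        refine Real.rpow_le_rpow_of_exponent_le hq1 ?_
        have h2i : 2 * i ≤ e := by
          obtain ⟨j, rfl⟩ := hid
          have : 2 ≤ j := by
            by_contra h
            interval_cases j <;> omega
          nlinarith
        have : (2 : ℝ) * i ≤ e := by exact_mod_cast h2i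
        have : (1 : ℝ) ≤ r := Nat.one_le_cast.2 hr1
        nlinarith
      · rw [nsmul_eq_mul]
        refine mul_le_mul_of_nonneg_right ?_ (mul_nonneg hM hP)
        refine Nat.cast_le.2 (le_trans (Finset.card_le_card fun i hi => ?_) (Nat.card_Ico 0 e).le)
        exact Finset.mem_Ico.2 ⟨Nat.zero_le i, (Nat.mem_properDivisors.1 hi).2⟩
    have hnn : 0 ≤ ∑ i ∈ e.properDivisors, (i : ℝ) * Zeta.degCount g i := Finset.sum_nonneg fun i _ => by positivity
    have hkey : (e : ℝ) * |d e| ≤ (e : ℝ) * ((C₁ + M) * P) := by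
      rw [← abs_of_pos (show (0 : ℝ) < e by linarith), ← abs_mul, abs_of_pos (show (0 : ℝ) < e by linarith),
        show (e : ℝ) * d e = (e : ℝ) * a e - main e by simp only [d]; field_simp]
      have h := abs_le.1 (hN e he.ne')
      rw [hsplit] at h
      have : C₁ * P ≤ e * (C₁ * P) := le_mul_of_one_le_left (mul_nonneg hC₁ hP) he'
      rw [abs_le]
      constructor <;> nlinarith [h.1, h.2]
    refine (le_of_mul_le_mul_left hkey (by linarith)).trans ?_
    rw [mul_right_comm]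
    exact le_mul_of_one_le_right (mul_nonneg (by positivity) hP) he'
  have hdsum : ∀ σ : ℝ, (r : ℝ) - 1 / 2 < σ → Summable fun e : ℕ => ‖(d e : ℂ)‖ * ((q ^ e : ℕ) : ℝ) ^ (-σ) := by
    intro σ hσ
    set ρ : ℝ := (q : ℝ) ^ ((r : ℝ) - 1 / 2 - σ)
    have hρ : ρ < 1 := Real.rpow_lt_one_of_one_lt_of_neg (Nat.one_lt_cast.2 (by omega)) (by linarith)
    refine Summable.of_nonneg_of_le (fun e => by positivity) (fun e => ?_)
      ((summable_pow_mul_geometric_of_norm_lt_one 1 (r := ρ) (by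
        rw [Real.norm_of_nonneg (by positivity)]; exact hρ)).mul_left (C₁ + M))
    rw [Complex.norm_real, Real.norm_eq_abs]
    refine (mul_le_mul_of_nonneg_right (hd e) (by positivity)).trans_eq ?_
    rw [pow_one, Nat.cast_pow, ← Real.rpow_natCast (q : ℝ) e, ← Real.rpow_mul hq0.le, mul_assoc, ← Real.rpow_add hq0]
    simp only [ρ]
    rw [← Real.rpow_natCast (_ ^ _) e, ← Real.rpow_mul hq0.le]
    ring_nf
  have hpos : ∀ e, ∀ x : {x : H27Zeta.ClPt Y // EGA4loc.residueDegree g x.1 = e},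
      H27Zeta.ptNorm x.1 = q ^ e := fun e x => by rw [(ptNorm_eq_pow g x.1).1, x.2]
  refine ⟨T, inferInstance, fun Z => m Z.1, fun Z => (hm Z.1 Z.2).1, fun hempty σ hσ => ?_,
    fun s => ∑' e : ℕ, (d e : ℂ) * ((q ^ e : ℕ) : ℂ) ^ (-s),
    differentiableOn_dirichlet (fun e : ℕ => q ^ e) (fun e => Nat.one_le_pow _ _ (by omega)) _ _ hdsum,
    fun s hs => ?_⟩
  · rw [← (Equiv.sigmaFiberEquiv fun x : H27Zeta.ClPt Y => EGA4loc.residueDegree g x.1).summable_iff,
      Function.comp_def, summable_sigma_of_nonneg fun x => by positivity]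
    refine ⟨fun e => Summable.of_finite, (hdsum σ hσ).congr fun e => ?_⟩
    haveI := hfinfib e
    cases nonempty_fintype {x : H27Zeta.ClPt Y // EGA4loc.residueDegree g x.1 = e}
    simp only [Equiv.sigmaFiberEquiv_apply]
    rw [tsum_fintype, Finset.sum_congr rfl fun x _ => by rw [hpos e x], Finset.sum_const, nsmul_eq_mul,
      Finset.card_univ, ← Nat.card_eq_fintype_card]
    have : T = ∅ := Finset.eq_empty_of_forall_notMem fun Z hZ => hempty.false ⟨Z, hZ⟩
    simp [d, main, this, a]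
  · have hP : Summable fun x : H27Zeta.ClPt Y => (H27Zeta.ptNorm x : ℂ) ^ (-s) :=
      Summable.of_norm ((H27Zeta.summable_ptNorm (H27Zeta.toInt g) hr.le s.re hs).congr fun x => by
        rw [Complex.norm_natCast_cpow_of_pos (by have := H27Zeta.two_le_ptNorm (H27Zeta.toInt g) x; omega),
          Complex.neg_re])
    have hsum : HasSum (fun e : ℕ => (a e : ℂ) * ((q ^ e : ℕ) : ℂ) ^ (-s))
        (∑' x : H27Zeta.ClPt Y, (H27Zeta.ptNorm x : ℂ) ^ (-s)) := by
      refine (((Equiv.sigmaFiberEquiv fun x : H27Zeta.ClPt Y => EGA4loc.residueDegree g x.1).hasSum_iff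
        (f := fun x => (H27Zeta.ptNorm x : ℂ) ^ (-s))).2 hP.hasSum).sigma fun e => ?_
      haveI := hfinfib e
      cases nonempty_fintype {x : H27Zeta.ClPt Y // EGA4loc.residueDegree g x.1 = e}
      convert hasSum_fintype _ using 1
      simp only [Function.comp_apply, Equiv.sigmaFiberEquiv_apply]
      rw [Finset.sum_congr rfl fun x _ => by rw [hpos e x], Finset.sum_const, nsmul_eq_mul, Finset.card_univ,
        ← Nat.card_eq_fintype_card]
    set w : ℂ := (q : ℂ) ^ ((r : ℂ) - s)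
    have hw : ‖w‖ < 1 := by
      rw [Complex.norm_natCast_cpow_of_pos (by omega), Complex.sub_re, Complex.natCast_re]
      exact Real.rpow_lt_one_of_one_lt_of_neg (Nat.one_lt_cast.2 (by omega)) (by linarith)
    have hqc : (q : ℂ) ≠ 0 := Nat.cast_ne_zero.2 (by omega)
    have hmodel : HasSum (fun e : ℕ => ((main e / e : ℝ) : ℂ) * ((q ^ e : ℕ) : ℂ) ^ (-s))
        (∑ Z : T, -Complex.log (1 - ((q ^ m Z.1 : ℕ) : ℂ) ^ ((r : ℂ) - s))) := by
      have h := hasSum_sum fun (Z : T) (_ : Z ∈ Finset.univ) => hasSum_log_model (hm Z.1 Z.2).1 w hw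
      have hw' : ∀ j : ℕ, w ^ j = ((q ^ j : ℕ) : ℂ) ^ ((r : ℂ) - s) := fun j => by
        rw [Nat.cast_pow, ← Complex.natCast_cpow_natCast_mul]
        exact (Complex.cpow_nat_mul _ _ _).symm
      simp only [hw'] at h
      refine h.congr_fun fun e => ?_
      simp only [main, Complex.ofReal_div, Complex.ofReal_sum, Complex.ofReal_natCast, Finset.sum_div,
        Finset.sum_mul]
      rw [← Finset.sum_coe_sort T]
      refine Finset.sum_congr rfl fun Z _ => ?_
      split_ifs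
      · push_cast
        rw [sub_eq_add_neg (r : ℂ), Complex.cpow_add _ _ (pow_ne_zero e hqc), Complex.cpow_natCast, pow_mul]
        ring
      · simp
    rw [← hsum.tsum_eq]
    have hdiff : HasSum (fun e : ℕ => (d e : ℂ) * ((q ^ e : ℕ) : ℂ) ^ (-s))
        ((∑' e : ℕ, (a e : ℂ) * ((q ^ e : ℕ) : ℂ) ^ (-s)) -
          ∑ Z : T, -Complex.log (1 - ((q ^ m Z.1 : ℕ) : ℂ) ^ ((r : ℂ) - s))) := by
      refine (hsum.summable.hasSum.sub hmodel).congr_fun fun e => ?_
      simp only [d, Complex.ofReal_sub, Complex.ofReal_natCast]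
      ring
    dsimp only
    rw [hdiff.tsum_eq]
    ring

end Groth.Agent.H27Mero
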