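import Groth.Agent.H27Mero.Fibre
import Groth.Agent.H27Mero.NFPrimes
import Groth.Agent.H27Mero.Vertical
import Groth.Agent.H27Mero.Horizontal
import Mathlib

/-!
# The prime series of an arithmetic scheme
-/

set_option autoImplicit false
set_option maxHeartbeats 2000000
universe u

noncomputable section

open CategoryTheory CategoryTheory.Limits AlgebraicGeometry TopologicalSpace NumberField IsDedekindDomain Filter Topology

namespace Groth.Agent.H27Mero

theorem hasSum_fibre {α β : Type*} {E : Type*} [NormedAddCommGroup E] [CompleteSpace E] (F : α → β) (c : β → ℕ)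
    (hfin : ∀ b, Finite {a // F a = b}) (hc : ∀ b, Nat.card {a // F a = b} = c b) (g : β → E)
    (h : Summable fun a => g (F a)) : HasSum (fun b => c b • g b) (∑' a, g (F a)) := by
  refine (((Equiv.sigmaFiberEquiv F).hasSum_iff (f := fun a => g (F a))).2 h.hasSum).sigma fun b => ?_
  haveI := hfin b
  cases nonempty_fintype {a // F a = b}
  convert hasSum_fintype _ using 1
  simp only [Function.comp_apply, Equiv.sigmaFiberEquiv_apply]
  rw [Finset.sum_congr rfl fun x _ => by rw [x.2], Finset.sum_const, Finset.card_univ, ← Nat.card_eq_fintype_card, hc]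

theorem summable_primePower_points {α : Type u} (N : α → ℕ) (p₀ : ℕ) (c : ℝ) (hc : 0 ≤ c) (e σ : ℝ)
    (hσ : e + 1 / 2 < σ) (hN : ∀ a, ∃ p m : ℕ, p.Prime ∧ p₀ ≤ p ∧ 2 ≤ m ∧ N a = p ^ m)
    (hfin : ∀ n, {a | N a = n}.Finite)
    (hcount : ∀ p m : ℕ, p.Prime → p₀ ≤ p → 2 ≤ m → (Nat.card {a // N a = p ^ m} : ℝ) ≤ c * ((p ^ m : ℕ) : ℝ) ^ e) :
    Summable fun a => (N a : ℝ) ^ (-σ) := by
  classical
  haveI : ∀ n, Finite {a // N a = n} := fun n => (hfin n).to_subtype
  rw [← (Equiv.sigmaFiberEquiv N).summable_iff, Function.comp_def,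
    summable_sigma_of_nonneg fun a => Real.rpow_nonneg (Nat.cast_nonneg _) _]
  refine ⟨fun n => Summable.of_finite, ?_⟩
  simp only [Equiv.sigmaFiberEquiv_apply]
  let pw : Nat.Primes × ℕ → ℕ := fun q => (q.1 : ℕ) ^ (q.2 + 2)
  have hpw : Function.Injective pw := by
    rintro ⟨⟨p, hp⟩, i⟩ ⟨⟨q, hq⟩, j⟩ h
    simp only [pw] at h
    have hpq : p = q := (Nat.prime_dvd_prime_iff_eq hp hq).1 (hp.dvd_of_dvd_pow (h ▸ dvd_pow_self p (by omega : i + 2 ≠ 0)))
    subst hpq
    have := Nat.pow_right_injective hp.two_le h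
    simp at this
    rw [this]
  refine (hpw.summable_iff fun n hn => ?_).1 ?_
  · haveI : IsEmpty {a // N a = n} := ⟨fun ⟨a, ha⟩ => by
      obtain ⟨p, m, hp, -, hm, h⟩ := hN a
      exact hn ⟨(⟨p, hp⟩, m - 2), by simp only [pw]; rw [Nat.sub_add_cancel hm, ← h, ha]⟩⟩
    exact tsum_empty
  set β := σ - e
  have hβ : 1 / 2 < β := by simp only [β]; linarith
  have h2 : (2 : ℝ) ^ (-β) < 1 := Real.rpow_lt_one_of_one_lt_of_neg one_lt_two (by linarith)
  refine Summable.of_nonneg_of_le (fun q => tsum_nonneg fun _ => Real.rpow_nonneg (Nat.cast_nonneg _) _) (fun q => ?_)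
    (((Nat.Primes.summable_rpow.2 (show -(2 * β) < -1 by linarith)).mul_of_nonneg
      (summable_geometric_of_lt_one (by positivity) h2) (fun p => by positivity) (fun i => by positivity)).mul_left c)
  obtain ⟨⟨p, hp⟩, i⟩ := q
  simp only [Function.comp_apply, pw]
  cases nonempty_fintype {a // N a = p ^ (i + 2)}
  rw [tsum_fintype, Finset.sum_congr rfl (g := fun _ => ((p ^ (i + 2) : ℕ) : ℝ) ^ (-σ)) (fun a _ => by rw [a.2]),
    Finset.sum_const, Finset.card_univ, nsmul_eq_mul, ← Nat.card_eq_fintype_card]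
  rcases lt_or_ge p p₀ with hlt | hge
  · haveI : IsEmpty {a // N a = p ^ (i + 2)} := ⟨fun ⟨a, ha⟩ => by
      obtain ⟨p', m, hp', hge, hm, h⟩ := hN a
      rw [ha] at h
      have : p = p' := (Nat.prime_dvd_prime_iff_eq hp hp').1 (hp.dvd_of_dvd_pow (h ▸ dvd_pow_self p (by omega)))
      omega⟩
    rw [Nat.card_of_isEmpty, Nat.cast_zero, zero_mul]
    positivity
  · have hp0 : (0 : ℝ) < p := Nat.cast_pos.2 hp.pos
    refine (mul_le_mul_of_nonneg_right (hcount p (i + 2) hp hge (by omega)) (by positivity)).trans ?_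
    rw [mul_assoc, ← Real.rpow_add (Nat.cast_pos.2 (pow_pos hp.pos _))]
    refine mul_le_mul_of_nonneg_left ?_ hc
    calc ((p ^ (i + 2) : ℕ) : ℝ) ^ (e + -σ) = (p : ℝ) ^ (-(2 * β)) * ((p : ℝ) ^ (-β)) ^ i := by
          rw [Nat.cast_pow, ← Real.rpow_natCast (p : ℝ), ← Real.rpow_mul hp0.le, ← Real.rpow_natCast _ i,
            ← Real.rpow_mul hp0.le, ← Real.rpow_add hp0]
          congr 1
          simp only [β]; push_cast; ring
      _ ≤ (p : ℝ) ^ (-(2 * β)) * ((2 : ℝ) ^ (-β)) ^ i := by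
          refine mul_le_mul_of_nonneg_left (pow_le_pow_left₀ (by positivity) ?_ i) (by positivity)
          exact Real.rpow_le_rpow_of_nonpos two_pos (by exact_mod_cast hp.two_le) (by linarith)

variable {X : Scheme.{u}} (f : X ⟶ Spec (CommRingCat.of (ULift.{u} ℤ))) [LocallyOfFiniteType f] [QuasiCompact f]

theorem natCast_residueField_specializes {x η : X} (h : η ⤳ x) (n : ℕ) (hn : (n : X.residueField x) ≠ 0) :
    (n : X.residueField η) ≠ 0 := by
  have h1 : x ∈ X.basicOpen (n : Γ(X, ⊤)) :=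
    (Scheme.evaluation_ne_zero_iff_mem_basicOpen X x (show x ∈ (⊤ : X.Opens) from trivial) _).1 (by rwa [map_natCast])
  have h2 := (Scheme.evaluation_ne_zero_iff_mem_basicOpen X η (show η ∈ (⊤ : X.Opens) from trivial) _).2
    (h.mem_open (X.basicOpen (n : Γ(X, ⊤))).2 h1)
  rwa [map_natCast] at h2

omit [LocallyOfFiniteType f] [QuasiCompact f] in
theorem charZero_of_dominant {x : X}
    (hx : closure ({f x} : Set (Spec (CommRingCat.of (ULift.{u} ℤ)))) = Set.univ) : CharZero (X.residueField x) := by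
  let ψ : CommRingCat.of (ULift.{u} ℤ) ⟶ X.residueField x := Spec.preimage (X.fromSpecResidueField x ≫ f)
  have hψ : Spec.map ψ = X.fromSpecResidueField x ≫ f := Spec.map_preimage _
  have hfx : f x = (Spec.map ψ) (IsLocalRing.closedPoint _) := by
    rw [hψ, Scheme.Hom.comp_apply, Scheme.fromSpecResidueField_apply]
  haveI : IsDomain (ULift.{u} ℤ) := (ULift.ringEquiv.{0, u} (R := ℤ)).toMulEquiv.isDomain ℤ
  let z : PrimeSpectrum (ULift.{u} ℤ) := ⟨⊥, Ideal.isPrime_bot⟩
  have hker : RingHom.ker ψ.hom ≤ ⊥ := by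
    have hz : z ∈ closure ({f x} : Set (PrimeSpectrum (ULift.{u} ℤ))) := hx ▸ Set.mem_univ _
    let y : PrimeSpectrum (ULift.{u} ℤ) := f x
    have hle' : y.asIdeal ≤ z.asIdeal :=
      (PrimeSpectrum.asIdeal_le_asIdeal y z).2 ((PrimeSpectrum.le_iff_mem_closure y z).2 hz)
    refine le_trans ?_ hle'
    intro a ha
    show a ∈ (f x).asIdeal
    rw [hfx]
    change ψ.hom a ∈ (IsLocalRing.closedPoint (X.residueField x)).asIdeal
    rw [(RingHom.mem_ker).1 ha]
    exact zero_mem _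
  refine charZero_of_inj_zero fun n hn => ?_
  have h1 : ((n : ℕ) : ULift.{u} ℤ) ∈ RingHom.ker ψ.hom := RingHom.mem_ker.2 ((map_natCast ψ.hom n).trans hn)
  have h2 := congrArg ULift.down (Ideal.mem_bot.1 (hker h1))
  simpa using h2

include f in
theorem summable_closed (W : Set X) (hW : IsClosed W) (n : ℕ) (hn : topologicalKrullDim W ≤ n) (σ : ℝ)
    (hσ : (n : ℝ) < σ) :
    Summable fun x : {x : H27Zeta.ClPt X // x.1 ∈ W} => (H27Zeta.ptNorm x.1 : ℝ) ^ (-σ) := by
  classical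
  let Zc : Closeds X := ⟨W, hW⟩
  let w := (Scheme.IdealSheafData.vanishingIdeal Zc).subschemeι
  have hrange : Set.range w = W := by
    rw [Scheme.IdealSheafData.range_subschemeι]
    exact Scheme.IdealSheafData.coe_support_vanishingIdeal _
  haveI : QuasiCompact (w ≫ f) := inferInstance
  have hsum := H27Zeta.summable_ptNorm (w ≫ f) (r := n) (by
    rw [← H8Props.FieldDim.dim_range w.isClosedEmbedding.isEmbedding, hrange]; exact hn) σ hσ
  have hy : ∀ x : {x : H27Zeta.ClPt X // x.1 ∈ W}, ∃ y : H27Zeta.ClPt (Scheme.IdealSheafData.vanishingIdeal Zc).subscheme,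
      w y.1 = x.1.1 := by
    intro x
    obtain ⟨y, hy⟩ := (hrange.symm ▸ x.2 : x.1.1 ∈ Set.range w)
    refine ⟨⟨y, ?_⟩, hy⟩
    have := x.1.2.preimage w.continuous
    convert this
    ext z
    exact ⟨fun hz => by rw [Set.mem_singleton_iff.1 hz]; exact hy,
      fun hz => w.isClosedEmbedding.injective ((Set.mem_singleton_iff.1 hz).trans hy.symm)⟩
  choose y hy using hy
  have hinj : Function.Injective y := fun a b h => Subtype.ext (Subtype.ext (by rw [← hy a, ← hy b, h]))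
  refine (hsum.comp_injective hinj).congr fun x => ?_
  simp only [Function.comp_apply]
  congr 2
  rw [H27Zeta.ptNorm, H27Zeta.ptNorm, ← hy x]
  refine (Nat.card_congr (Equiv.ofBijective _ ⟨RingHom.injective (w.residueFieldMap (y x).1).hom, fun z => ?_⟩)).symm
  obtain ⟨z, rfl⟩ := IsLocalRing.residue_surjective z
  obtain ⟨v, rfl⟩ := w.stalkMap_surjective (y x).1 z
  exact ⟨X.residue _ v, congrArg (fun φ : X.presheaf.stalk _ ⟶ _ => φ.hom v)
    (Scheme.residue_residueFieldMap w (y x).1)⟩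

include f in
/-- The series of a horizontal piece: the model plus a holomorphic function. -/
theorem exists_horizontal_series (r : ℕ) (hr1 : 1 ≤ r) (hr : topologicalKrullDim X = r) {η : X} {O : Set X}
    (D : HorPiece X η O) (H₀ : ℕ) (hH₀ : H₀ ≠ 0) (hdvd : D.h ∣ H₀) :
    (∀ σ : ℝ, (r : ℝ) - 1 / 2 < σ → D.t + 1 ≠ r →
      Summable fun a : {a // Nat.Coprime (H27Zeta.ptNorm (D.pt a)) H₀} => (H27Zeta.ptNorm (D.pt a.1) : ℝ) ^ (-σ)) ∧
    ∃ H : ℂ → ℂ, DifferentiableOn ℂ H {s | (r : ℝ) - 1 / 2 < s.re} ∧ ∀ s : ℂ, (r : ℝ) < s.re →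
      ∑' a : {a // Nat.Coprime (H27Zeta.ptNorm (D.pt a)) H₀}, (H27Zeta.ptNorm (D.pt a.1) : ℂ) ^ (-s) =
        (if D.t + 1 = r then ∑' P : HeightOneSpectrum (𝓞 D.K), (nfNorm D.K P : ℂ) ^ (-(s - ((r - 1 : ℕ) : ℂ))) else 0) +
          H s := by
  classical
  haveI := H27LangWeil.jacobsonSpace_arith f
  let N := nfNorm D.K
  have hN2 : ∀ P, 2 ≤ N P := H27LangWeil.two_le_absNorm
  let A := {a // Nat.Coprime (H27Zeta.ptNorm (D.pt a)) H₀}
  let F : A → HeightOneSpectrum (𝓞 D.K) := fun a => a.1.1.1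
  have hF : ∀ a : A, H27Zeta.ptNorm (D.pt a.1) = N (F a) := fun a => D.pt_norm a.1
  let cnt : HeightOneSpectrum (𝓞 D.K) → ℕ := fun P => if Nat.Coprime (N P) H₀ then D.n P else 0
  have hfib : ∀ P, Nat.card {a : A // F a = P} = cnt P ∧ Finite {a : A // F a = P} := by
    intro P
    by_cases hP : Nat.Coprime (N P) H₀
    · let e : {a : A // F a = P} ≃ Fin (D.n P) :=
        { toFun := fun a => Fin.cast (congrArg D.n a.2) a.1.1.2
          invFun := fun i => ⟨⟨⟨⟨P, hP.coprime_dvd_right hdvd⟩, i⟩, by rw [D.pt_norm]; exact hP⟩, rfl⟩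
          left_inv := by rintro ⟨⟨⟨⟨Q, hQ⟩, i⟩, hi⟩, hQP⟩; subst hQP; rfl
          right_inv := fun i => rfl }
      haveI := Finite.of_equiv _ e.symm
      exact ⟨by rw [Nat.card_congr e, Nat.card_fin]; simp [cnt, hP], inferInstance⟩
    · haveI : IsEmpty {a : A // F a = P} := ⟨fun a => hP (by rw [← a.2, ← hF]; exact a.1.2)⟩
      exact ⟨by rw [Nat.card_of_isEmpty]; simp [cnt, hP], inferInstance⟩
  let d : HeightOneSpectrum (𝓞 D.K) → ℝ := fun P => (cnt P : ℝ) - (N P : ℝ) ^ D.t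
  have hbad : ∀ᶠ P in cofinite, Nat.Coprime (N P) H₀ := by
    refine (Ideal.finite_factors (I := Ideal.span {(H₀ : 𝓞 D.K)}) (by simpa using hH₀)).subset fun P hP => ?_
    simp only [Set.mem_compl_iff, Set.mem_ofPred_eq] at hP ⊢
    obtain ⟨p, hp, hpN, hpH⟩ := Nat.Prime.not_coprime_iff_dvd.1 hP
    refine Ideal.dvd_iff_le.2 ((Ideal.span_singleton_le_iff_mem _).2 ?_)
    haveI := P.isMaximal
    letI : Field (𝓞 D.K ⧸ P.asIdeal) := Ideal.Quotient.field _
    haveI : Finite (𝓞 D.K ⧸ P.asIdeal) := Ring.HasFiniteQuotients.finiteQuotient P.ne_bot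
    have h0 : (p : 𝓞 D.K ⧸ P.asIdeal) = 0 := (natCast_eq_zero_iff_dvd_card _ hp).2 (by
      simpa [N, nfNorm, Ideal.absNorm_apply, Submodule.cardQuot_apply] using hpN)
    obtain ⟨c, hc⟩ := hpH
    rw [← Ideal.Quotient.eq_zero_iff_mem, map_natCast, hc, Nat.cast_mul, h0, zero_mul]
  have hdsum : ∀ σ : ℝ, (D.t : ℝ) + 1 / 2 < σ → Summable fun P => ‖(d P : ℂ)‖ * (N P : ℝ) ^ (-σ) := by
    intro σ hσ
    refine Summable.of_norm_bounded_eventually ((summable_primes D.K (α := σ - D.t + 1 / 2) (by linarith)).mul_left D.C) ?_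
    filter_upwards [hbad] with P hP
    have hQ : (0 : ℝ) < N P := Nat.cast_pos.2 (by have := hN2 P; omega)
    rw [Real.norm_of_nonneg (by positivity), Complex.norm_real, Real.norm_eq_abs]
    have h := D.est P (hP.coprime_dvd_right hdvd)
    rw [← le_div_iff₀ (Real.sqrt_pos.2 hQ), Real.sqrt_eq_rpow, mul_div_assoc, ← Real.rpow_natCast,
      ← Real.rpow_sub hQ] at h
    simp only [d, cnt, if_pos hP]
    rw [← Real.rpow_natCast]
    refine (mul_le_mul_of_nonneg_right h (by positivity)).trans_eq ?_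
    rw [mul_assoc, ← Real.rpow_add hQ]
    congr 2
    ring
  have hsumA : ∀ σ : ℝ, (r : ℝ) < σ → Summable fun a : A => (N (F a) : ℝ) ^ (-σ) := fun σ hσ =>
    ((H27Zeta.summable_ptNorm f hr.le σ hσ).comp_injective (D.pt_inj.comp Subtype.val_injective)).congr fun a => by
      simp only [Function.comp_apply, hF]
  have htr : D.t + 1 ≤ r := by
    by_contra hlt
    have hlt' : (r : ℝ) + 1 ≤ D.t + 1 := by exact_mod_cast (not_le.1 hlt)
    set σ : ℝ := (D.t : ℝ) + 3 / 4
    have h1 := (hasSum_fibre F cnt (fun P => (hfib P).2) (fun P => (hfib P).1) (fun P => (N P : ℝ) ^ (-σ))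
      (hsumA σ (by simp only [σ]; linarith))).summable
    have h2 : Summable fun P => d P * (N P : ℝ) ^ (-σ) :=
      Summable.of_norm ((hdsum σ (by simp only [σ]; linarith)).congr fun P => by
        rw [norm_mul, Real.norm_of_nonneg (Real.rpow_nonneg (Nat.cast_nonneg (N P)) _), Complex.norm_real])
    refine H27LangWeil.not_summable_primes D.K (σ := 3 / 4) (by norm_num) (by norm_num) ((h1.sub h2).congr fun P => ?_)
    have hQ : (0 : ℝ) < N P := Nat.cast_pos.2 (by have := hN2 P; omega)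
    simp only [d, nsmul_eq_mul, σ]
    rw [← sub_mul, sub_sub_cancel, ← Real.rpow_natCast, ← Real.rpow_add hQ]
    congr 1; ring
  have htle : (D.t : ℝ) + 1 ≤ r := by exact_mod_cast htr
  have hlow : D.t + 1 ≠ r → ∀ σ : ℝ, (r : ℝ) - 1 / 2 < σ → Summable fun P => (cnt P : ℝ) * (N P : ℝ) ^ (-σ) := by
    intro hne σ hσ
    have h' : (D.t : ℝ) + 2 ≤ r := by exact_mod_cast (show D.t + 2 ≤ r by omega)
    refine Summable.of_nonneg_of_le (fun P => by positivity) (fun P => ?_)
      ((hdsum σ (by linarith)).add (summable_primes D.K (α := σ - D.t) (by linarith)))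
    have hQ : (0 : ℝ) < N P := Nat.cast_pos.2 (by have := hN2 P; omega)
    calc (cnt P : ℝ) * (N P : ℝ) ^ (-σ) = (d P + (N P : ℝ) ^ D.t) * (N P : ℝ) ^ (-σ) := by simp only [d]; ring
      _ ≤ (|d P| + (N P : ℝ) ^ D.t) * (N P : ℝ) ^ (-σ) := by gcongr; exact le_abs_self _
      _ = _ := by
          rw [add_mul, Complex.norm_real, Real.norm_eq_abs, ← Real.rpow_natCast, ← Real.rpow_add hQ]
          congr 2; ring
  have hN1 : ∀ P, 1 ≤ N P := fun P => one_le_two.trans (hN2 P)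
  have hC : ∀ s : ℂ, (r : ℝ) < s.re →
      HasSum (fun P => (cnt P : ℂ) * (N P : ℂ) ^ (-s)) (∑' a : A, (H27Zeta.ptNorm (D.pt a.1) : ℂ) ^ (-s)) := by
    intro s hs
    simp only [hF, ← nsmul_eq_mul]
    refine hasSum_fibre F cnt (fun P => (hfib P).2) (fun P => (hfib P).1) (fun P => (N P : ℂ) ^ (-s)) ?_
    refine Summable.of_norm ((hsumA s.re hs).congr fun a => ?_)
    rw [Complex.norm_natCast_cpow_of_pos (hN1 (F a)), Complex.neg_re]
  refine ⟨fun σ hσ hne => ?_, ?_⟩
  · haveI : ∀ P, Finite {a : A // F a = P} := fun P => (hfib P).2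
    rw [← (Equiv.sigmaFiberEquiv F).summable_iff, Function.comp_def,
      summable_sigma_of_nonneg fun a => by positivity]
    refine ⟨fun P => Summable.of_finite, (hlow hne σ hσ).congr fun P => ?_⟩
    cases nonempty_fintype {a : A // F a = P}
    simp only [Equiv.sigmaFiberEquiv_apply, hF]
    rw [tsum_fintype, Finset.sum_congr rfl (g := fun _ => (N P : ℝ) ^ (-σ)) (fun a _ => by rw [a.2]),
      Finset.sum_const, Finset.card_univ, nsmul_eq_mul, ← Nat.card_eq_fintype_card, (hfib P).1]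
  by_cases hteq : D.t + 1 = r
  · refine ⟨fun s => ∑' P, (d P : ℂ) * (N P : ℂ) ^ (-s),
      differentiableOn_dirichlet N hN1 _ _ fun σ hσ => hdsum σ (by
        have : (D.t : ℝ) + 1 = r := by exact_mod_cast hteq
        linarith), fun s hs => ?_⟩
    rw [if_pos hteq]
    have hmod : HasSum (fun P => (((N P : ℝ) ^ D.t : ℝ) : ℂ) * (N P : ℂ) ^ (-s))
        (∑' P : HeightOneSpectrum (𝓞 D.K), (nfNorm D.K P : ℂ) ^ (-(s - ((r - 1 : ℕ) : ℂ)))) := by
      have e : ∀ P, (((N P : ℝ) ^ D.t : ℝ) : ℂ) * (N P : ℂ) ^ (-s) =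
          (nfNorm D.K P : ℂ) ^ (-(s - ((r - 1 : ℕ) : ℂ))) := fun P => by
        have hne : (N P : ℂ) ≠ 0 := Nat.cast_ne_zero.2 (by have := hN1 P; omega)
        rw [show r - 1 = D.t by omega, neg_sub, sub_eq_add_neg, Complex.cpow_add _ _ hne, Complex.cpow_natCast]
        push_cast; rfl
      simp only [e]
      refine (Summable.of_norm ((summable_primes D.K (α := s.re - D.t) ?_).congr fun P => ?_)).hasSum
      · have : (D.t : ℝ) + 1 = r := by exact_mod_cast hteq
        linarith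
      · rw [Complex.norm_natCast_cpow_of_pos (hN1 P), show r - 1 = D.t by omega]
        simp [sub_eq_add_neg]
        rfl
    have hdiff : HasSum (fun P => (d P : ℂ) * (N P : ℂ) ^ (-s))
        ((∑' a : A, (H27Zeta.ptNorm (D.pt a.1) : ℂ) ^ (-s)) -
          ∑' P : HeightOneSpectrum (𝓞 D.K), (nfNorm D.K P : ℂ) ^ (-(s - ((r - 1 : ℕ) : ℂ)))) := by
      refine ((hC s hs).sub hmod).congr_fun fun P => ?_
      simp only [d, Complex.ofReal_sub, Complex.ofReal_natCast]
      ring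
    dsimp only
    rw [hdiff.tsum_eq]
    ring
  · refine ⟨fun s => ∑' P, (cnt P : ℂ) * (N P : ℂ) ^ (-s),
      differentiableOn_dirichlet N hN1 _ _ fun σ hσ => (hlow hteq σ hσ).congr fun P => by
        rw [Complex.norm_natCast], fun s hs => ?_⟩
    rw [if_neg hteq, zero_add]
    exact (hC s hs).tsum_eq.symm

/-- The series of a fibre: the models plus a holomorphic function. -/
theorem exists_fibre_series (r : ℕ) (hr1 : 1 ≤ r) (hr : topologicalKrullDim X = r) (p : ℕ) (hp : p.Prime) :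
    ∃ (T : Type u) (_ : Fintype T) (m : T → ℕ), (∀ i, 1 ≤ m i) ∧
      (topologicalKrullDim (Fib f p) ≠ r → IsEmpty T) ∧
      (IsEmpty T → ∀ σ : ℝ, (r : ℝ) - 1 / 2 < σ →
        Summable fun x : H27Zeta.ClPt (Fib f p) => (H27Zeta.ptNorm x : ℝ) ^ (-σ)) ∧
      ∃ H : ℂ → ℂ, DifferentiableOn ℂ H {s | (r : ℝ) - 1 / 2 < s.re} ∧ ∀ s : ℂ, (r : ℝ) < s.re →
        ∑' x : H27Zeta.ClPt (Fib f p), (H27Zeta.ptNorm x : ℂ) ^ (-s) =
          (∑ i, -Complex.log (1 - ((p ^ m i : ℕ) : ℂ) ^ ((r : ℂ) - s))) + H s := by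
  classical
  haveI := Fact.mk hp
  letI : Field (ULift.{u} (ZMod p)) := ULift.field
  have hk : Nat.card (ULift.{u} (ZMod p)) = p := by rw [Nat.card_ulift, Nat.card_zmod]
  by_cases hd : topologicalKrullDim (Fib f p) = r
  · obtain ⟨T, i, m, hm, hsum, H, hH, hser⟩ := exists_vertical_series (fibMap f p) r hr1 hd
    rw [hk] at hser
    exact ⟨T, i, m, hm, fun h => absurd hd h, hsum, H, hH, hser⟩
  · have hle : topologicalKrullDim (Fib f p) ≤ ((r - 1 : ℕ) : WithBot ℕ∞) :=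
      le_sub_one_of_lt (lt_of_le_of_ne ((dim_fib_le f p).trans hr.le) hd)
    have hsum : ∀ σ : ℝ, (r : ℝ) - 1 / 2 < σ →
        Summable fun x : H27Zeta.ClPt (Fib f p) => (H27Zeta.ptNorm x : ℝ) ^ (-σ) := fun σ hσ =>
      H27Zeta.summable_ptNorm (H27Zeta.toInt (fibMap f p)) hle σ (by rw [Nat.cast_sub hr1]; push_cast; linarith)
    have h2 : ∀ x : H27Zeta.ClPt (Fib f p), 1 ≤ H27Zeta.ptNorm x := fun x =>
      one_le_two.trans (H27Zeta.two_le_ptNorm (H27Zeta.toInt (fibMap f p)) x)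
    refine ⟨PEmpty, inferInstance, PEmpty.elim, fun i => i.elim, fun _ => inferInstance, fun _ => hsum,
      fun s => ∑' x : H27Zeta.ClPt (Fib f p), (1 : ℂ) * (H27Zeta.ptNorm x : ℂ) ^ (-s),
      differentiableOn_dirichlet _ h2 _ _ fun σ hσ => (hsum σ hσ).congr fun x => by simp, fun s _ => ?_⟩
    simp

/-- **The prime series of an arithmetic scheme**. -/
theorem exists_prime_series (r : ℕ) (hr1 : 1 ≤ r) (hr : topologicalKrullDim X = r) :
    ∃ (ι κ : Type u) (_ : Fintype ι) (_ : Fintype κ) (K : ι → Type u) (_ : ∀ i, Field (K i))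
      (_ : ∀ i, NumberField (K i)) (Q : κ → ℕ), (∀ j, 2 ≤ Q j) ∧ (Nonempty ι ∨ Nonempty κ) ∧
      (IrreducibleSpace X → (∃ x : X, closure ({f x} : Set (Spec (CommRingCat.of (ULift.{u} ℤ)))) = Set.univ) →
        Subsingleton ι ∧ IsEmpty κ) ∧
      ∃ H : ℂ → ℂ, DifferentiableOn ℂ H {s | (r : ℝ) - 1 / 2 < s.re} ∧ ∀ s : ℂ, (r : ℝ) < s.re →
        ∑' x : H27Zeta.ClPt X, (H27Zeta.ptNorm x : ℂ) ^ (-s) =
          (∑ i, ∑' P : HeightOneSpectrum (𝓞 (K i)), (nfNorm (K i) P : ℂ) ^ (-(s - ((r - 1 : ℕ) : ℂ)))) +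
            (∑ j, -Complex.log (1 - (Q j : ℂ) ^ ((r : ℂ) - s))) + H s := by
  classical
  haveI : IsNoetherianRing (CommRingCat.of (ULift.{u} ℤ)) :=
    isNoetherianRing_of_ringEquiv ℤ (ULift.ringEquiv (R := ℤ)).symm
  haveI : IsLocallyNoetherian X := LocallyOfFiniteType.isLocallyNoetherian f
  haveI : CompactSpace X := QuasiCompact.compactSpace_of_compactSpace f
  haveI : IsNoetherian X := ⟨⟩
  have hfin : (irreducibleComponents X).Finite := TopologicalSpace.NoetherianSpace.finite_irreducibleComponents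
  haveI : Finite (irreducibleComponents X) := hfin.to_subtype
  let gen : irreducibleComponents X → X := fun Z => Z.2.1.genericPoint
  have hgen : ∀ Z : irreducibleComponents X, IsGenericPoint (gen Z) (Z : Set X) := fun Z =>
    Z.2.1.isGenericPoint_genericPoint (isClosed_of_mem_irreducibleComponents _ Z.2)
  let Gc := {Z : irreducibleComponents X // CharZero (X.residueField (gen Z))}
  haveI : Fintype Gc := Fintype.ofFinite _
  let O : irreducibleComponents X → Set X := fun Z => (⋃ Z' ∈ irreducibleComponents X \ {(Z : Set X)}, Z')ᶜ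
  have hOopen : ∀ Z, IsOpen (O Z) := fun Z =>
    ((hfin.sdiff).isClosed_biUnion fun Z' hZ' => isClosed_of_mem_irreducibleComponents Z' hZ'.1).isOpen_compl
  have hOnot : ∀ Z, ∀ x ∈ O Z, ∀ Z' : irreducibleComponents X, x ∈ (Z' : Set X) → Z' = Z := by
    intro Z x hx Z' hxZ'
    by_contra hne
    exact hx (Set.mem_biUnion (x := (Z' : Set X)) ⟨Z'.2, fun h => hne (Subtype.ext h)⟩ hxZ')
  have hOsub : ∀ Z, O Z ⊆ closure {gen Z} := by
    intro Z x hx
    rw [(hgen Z).def]
    have := hOnot Z x hx ⟨irreducibleComponent x, irreducibleComponent_mem_irreducibleComponents x⟩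
      mem_irreducibleComponent
    rw [← this]
    exact mem_irreducibleComponent
  have hOgen : ∀ Z, gen Z ∈ O Z := by
    intro Z hmem
    simp only [Set.mem_iUnion] at hmem
    obtain ⟨Z', ⟨hZ', hne⟩, hηZ'⟩ := hmem
    have hsub : (Z : Set X) ⊆ Z' := by
      rw [← (hgen Z).def]
      exact closure_minimal (Set.singleton_subset_iff.2 hηZ') (isClosed_of_mem_irreducibleComponents Z' hZ')
    exact hne (Set.mem_singleton_iff.2 (Z.2.eq_of_subset hZ'.1 hsub).symm)
  have hD : ∀ Z : Gc, Nonempty (HorPiece X (gen Z.1) (O Z.1)) := fun Z => by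
    haveI := Z.2
    exact nonempty_horPiece f (gen Z.1) (O Z.1) (hOopen _) (hOgen _) (hOsub _)
  let D : ∀ Z : Gc, HorPiece X (gen Z.1) (O Z.1) := fun Z => (hD Z).some
  obtain ⟨c, p₀, hc, hfibc⟩ := H27Zeta.ptNorm_fibre f hr.le
  cases nonempty_fintype (irreducibleComponents X)
  let chs : Finset ℕ := (Finset.range p₀ ∪ Finset.univ.image fun Z => ringChar (X.residueField (gen Z))).filter Nat.Prime
  let H₀ : ℕ := (∏ Z, (D Z).h) * ∏ p ∈ chs, p
  have hH₀ : H₀ ≠ 0 := mul_ne_zero (Finset.prod_ne_zero_iff.2 fun Z _ => (D Z).hpos.ne')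
    (Finset.prod_ne_zero_iff.2 fun p hp => (Finset.mem_filter.1 hp).2.ne_zero)
  have hdvd : ∀ Z, (D Z).h ∣ H₀ := fun Z =>
    (Finset.dvd_prod_of_mem _ (Finset.mem_univ Z)).trans (dvd_mul_right _ _)
  let S := H₀.primeFactors
  have hS : ∀ {p : ℕ}, p ∈ S ↔ p.Prime ∧ p ∣ H₀ := fun {p} => by simp [S, Nat.mem_primeFactors, hH₀]
  have hchs : ∀ p ∈ chs, p ∈ S := fun p hp =>
    hS.2 ⟨(Finset.mem_filter.1 hp).2, (Finset.dvd_prod_of_mem (fun p : ℕ => p) hp).trans (dvd_mul_left _ _)⟩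
  let G : Gc → Type u := fun Z => {a // Nat.Coprime (H27Zeta.ptNorm ((D Z).pt a)) H₀}
  let inHor : H27Zeta.ClPt X → Gc → Prop := fun x Z => ∃ a : G Z, (D Z).pt a.1 = x
  let tag : H27Zeta.ClPt X → Option (Gc ⊕ {p : ℕ // p ∈ S}) := fun x =>
    if h : ∃ Z, inHor x Z then some (Sum.inl h.choose)
    else if h' : ∃ p : {p : ℕ // p ∈ S}, p.1 ∣ H27Zeta.ptNorm x then some (Sum.inr h'.choose) else none
  have hexcl : ∀ x Z, inHor x Z → ∀ p : {p : ℕ // p ∈ S}, ¬ p.1 ∣ H27Zeta.ptNorm x := by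
    rintro x Z ⟨a, rfl⟩ p hp
    obtain ⟨hpp, hpH⟩ := hS.1 p.2
    exact hpp.one_lt.ne' (Nat.eq_one_of_dvd_coprimes a.2 hp hpH)
  have huniq : ∀ x Z Z', inHor x Z → inHor x Z' → Z = Z' := by
    rintro x Z Z' ⟨a, rfl⟩ ⟨a', ha'⟩
    have h1 := (D Z).sub ((D Z).pt_mem a.1)
    have h2 := (D Z').sub ((D Z').pt_mem a'.1)
    rw [ha'] at h2
    refine Subtype.ext (hOnot Z'.1 _ h2 Z.1 ?_)
    rw [← (hgen Z.1).def]; exact hOsub _ h1
  have huniqp : ∀ (x : H27Zeta.ClPt X) (p p' : {p : ℕ // p ∈ S}), p.1 ∣ H27Zeta.ptNorm x → p'.1 ∣ H27Zeta.ptNorm x → p = p' := by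
    intro x p p' h h'
    haveI := H27Zeta.finite_residueField_of_isClosed f x.2
    have hx : ∀ q : {p : ℕ // p ∈ S}, q.1 ∣ H27Zeta.ptNorm x → ringChar (X.residueField x.1) = q.1 := fun q hq =>
      (Nat.prime_dvd_prime_iff_eq (CharP.char_is_prime (X.residueField x.1) _) (hS.1 q.2).1).1
        (ringChar.dvd ((natCast_eq_zero_iff_dvd_card _ (hS.1 q.2).1).2 hq))
    exact Subtype.ext ((hx p h).symm.trans (hx p' h'))
  have htagl : ∀ x Z, tag x = some (Sum.inl Z) ↔ inHor x Z := fun x Z => by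
    simp only [tag]
    constructor
    · intro h
      split_ifs at h with h1 h2
      · obtain rfl := Sum.inl.inj (Option.some.inj h)
        exact h1.choose_spec
      · exact absurd (Option.some.inj h) Sum.inr_ne_inl
    · intro h
      rw [dif_pos ⟨Z, h⟩]
      exact congrArg (some ∘ Sum.inl) (huniq x _ _ (⟨Z, h⟩ : ∃ Z, inHor x Z).choose_spec h)
  have htagr : ∀ x (p : {p : ℕ // p ∈ S}), tag x = some (Sum.inr p) ↔ p.1 ∣ H27Zeta.ptNorm x := fun x p => by
    simp only [tag]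
    constructor
    · intro h
      split_ifs at h with h1 h2
      · exact absurd (Option.some.inj h) Sum.inl_ne_inr
      · obtain rfl := Sum.inr.inj (Option.some.inj h)
        exact h2.choose_spec
    · intro h
      rw [dif_neg fun ⟨Z, hZ⟩ => hexcl x Z hZ p h, dif_pos ⟨p, h⟩]
      exact congrArg (some ∘ Sum.inr) (huniqp x _ _ (⟨p, h⟩ : ∃ p : {p : ℕ // p ∈ S}, p.1 ∣ H27Zeta.ptNorm x).choose_spec h)
  -- the three kinds of fibres
  let eL : ∀ Z, G Z ≃ {x // tag x = some (Sum.inl Z)} := fun Z =>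
    Equiv.ofBijective (fun a => ⟨(D Z).pt a.1, (htagl _ _).2 ⟨a, rfl⟩⟩)
      ⟨fun a b h => Subtype.ext ((D Z).pt_inj (congrArg Subtype.val h)), fun ⟨x, hx⟩ => by
        obtain ⟨a, ha⟩ := (htagl x Z).1 hx; exact ⟨a, Subtype.ext ha⟩⟩
  let eR : ∀ p : {p : ℕ // p ∈ S}, H27Zeta.ClPt (Fib f p.1) ≃ {x // tag x = some (Sum.inr p)} := fun p =>
    Equiv.ofBijective (fun y => ⟨fibPt f p.1 y, (htagr _ _).2 (dvd_ptNorm_fibPt f p.1 (hS.1 p.2).1 y)⟩)
      ⟨fun a b h => fibPt_injective f p.1 (congrArg Subtype.val h), fun ⟨x, hx⟩ => by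
        obtain ⟨y, hy⟩ := exists_fibPt f p.1 (hS.1 p.2).1 x ((htagr x p).1 hx); exact ⟨y, Subtype.ext hy⟩⟩
  let W : Set X := ⋃ Z : Gc, ((Z.1 : Set X) \ (D Z).V)
  have hWc : IsClosed W := isClosed_iUnion_of_finite fun Z =>
    (isClosed_of_mem_irreducibleComponents _ Z.1.2).sdiff (D Z).V.2
  have hWd : topologicalKrullDim W ≤ ((r - 1 : ℕ) : WithBot ℕ∞) := by
    refine dim_le_sub_one_of_generic_notMem hr.le W hWc fun Z hZ η hη hmem => ?_
    obtain ⟨Z', hηZ', hnot⟩ := Set.mem_iUnion.1 hmem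
    have hsub : Z ⊆ (Z'.1 : Set X) := by
      rw [← hη.def]
      exact closure_minimal (Set.singleton_subset_iff.2 hηZ') (isClosed_of_mem_irreducibleComponents _ Z'.1.2)
    have heq : Z = (Z'.1 : Set X) := hZ.eq_of_subset Z'.1.2.1 hsub
    exact hnot ((show IsGenericPoint η (Z'.1 : Set X) from heq ▸ hη).eq (hgen Z'.1) ▸ (D Z').mem)
  have hnone : ∀ x, tag x = none → x.1 ∈ W ∨
      ∃ p m : ℕ, p.Prime ∧ p₀ ≤ p ∧ 2 ≤ m ∧ H27Zeta.ptNorm x = p ^ m := by
    intro x hx
    simp only [tag] at hx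
    split_ifs at hx with h1 h2
    haveI := H27Zeta.finite_residueField_of_isClosed f x.2
    cases nonempty_fintype (X.residueField x.1)
    obtain ⟨⟨m, hm⟩, hp, hcard⟩ := FiniteField.card (X.residueField x.1) (ringChar (X.residueField x.1))
    set p := ringChar (X.residueField x.1)
    have hN : H27Zeta.ptNorm x = p ^ m := by
      rw [H27Zeta.ptNorm, Nat.card_eq_fintype_card]; exact hcard
    have hpS : p ∉ S := fun h => h2 ⟨⟨p, h⟩, by rw [hN]; exact dvd_pow_self p hm.ne'⟩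
    let Z₀ : irreducibleComponents X := ⟨irreducibleComponent x.1, irreducibleComponent_mem_irreducibleComponents _⟩
    have hxZ₀ : gen Z₀ ⤳ x.1 := (hgen Z₀).specializes mem_irreducibleComponent
    have hchar : CharZero (X.residueField (gen Z₀)) := by
      obtain ⟨q, hq⟩ := CharP.exists (X.residueField (gen Z₀))
      rcases CharP.char_is_prime_or_zero (X.residueField (gen Z₀)) q with hqp | rfl
      · exfalso
        have h0 : (q : X.residueField x.1) = 0 := by
          by_contra hne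
          exact natCast_residueField_specializes hxZ₀ q hne (CharP.cast_eq_zero _ q)
        have hpq : p = q := (Nat.prime_dvd_prime_iff_eq hp hqp).1 (ringChar.dvd h0)
        refine hpS (hchs p (Finset.mem_filter.2 ⟨Finset.mem_union_right _ ?_, hp⟩))
        rw [hpq, ← ringChar.eq (X.residueField (gen Z₀)) q]
        exact Finset.mem_image_of_mem _ (Finset.mem_univ Z₀)
      · exact CharP.charP_to_charZero _
    let Z : Gc := ⟨Z₀, hchar⟩
    by_cases hxV : x.1 ∈ (D Z).V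
    swap
    · exact Or.inl (Set.mem_iUnion.2 ⟨Z, mem_irreducibleComponent, hxV⟩)
    have hp0 : p₀ ≤ p := le_of_not_gt fun hlt =>
      hpS (hchs p (Finset.mem_filter.2 ⟨Finset.mem_union_left _ (Finset.mem_range.2 hlt), hp⟩))
    rcases Nat.lt_or_ge m 2 with hm2 | hm2
    · exfalso
      have hNp : H27Zeta.ptNorm x = p := by rw [hN, show m = 1 by omega, pow_one]
      have hcop : Nat.Coprime p H₀ := hp.coprime_iff_not_dvd.2 fun h => hpS (hS.2 ⟨hp, h⟩)
      obtain ⟨a, ha⟩ := (D Z).cover x hxV (hNp ▸ hp) (hNp.symm ▸ hcop.coprime_dvd_right (hdvd Z))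
      exact h1 ⟨Z, ⟨a, by rw [ha, hNp]; exact hcop⟩, ha⟩
    · exact Or.inr ⟨p, m, hp, hp0, hm2, hN⟩
  clear_value tag
  have hRsum : ∀ σ : ℝ, (r : ℝ) - 1 / 2 < σ →
      Summable fun x : {x // tag x = none} => (H27Zeta.ptNorm x.1 : ℝ) ^ (-σ) := by
    intro σ hσ
    let A₁ := {x : {x // tag x = none} // x.1.1 ∈ W}
    let A₂ := {x : {x // tag x = none} // ¬ x.1.1 ∈ W}
    have h1 : Summable fun x : A₁ => (H27Zeta.ptNorm x.1.1 : ℝ) ^ (-σ) :=
      ((summable_closed f W hWc (r - 1) hWd σ (by rw [Nat.cast_sub hr1]; push_cast; linarith)).comp_injective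
        (i := fun x : A₁ => (⟨x.1.1, x.2⟩ : {x : H27Zeta.ClPt X // x.1 ∈ W}))
        fun a b h => Subtype.ext (Subtype.ext (congrArg (fun z : {x : H27Zeta.ClPt X // x.1 ∈ W} => z.1) h))).congr
        fun x => rfl
    have h2 : Summable fun x : A₂ => (H27Zeta.ptNorm x.1.1 : ℝ) ^ (-σ) := by
      refine summable_primePower_points (fun x : A₂ => H27Zeta.ptNorm x.1.1) p₀ c hc.le ((r : ℝ) - 1) σ (by linarith)
        (fun x => (hnone x.1.1 x.1.2).resolve_left x.2) (fun n => ?_) fun p m hp hge hm => ?_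
      · exact ((hfibc n).1.preimage (Function.Injective.injOn (f := fun x : A₂ => x.1.1)
          fun a b h => Subtype.ext (Subtype.ext h)))
      · rcases (hfibc (p ^ m)).2 with h | ⟨⟨p', m', hlt, hp', he⟩, -⟩
        · refine le_trans ?_ h
          haveI : Finite {x : H27Zeta.ClPt X // H27Zeta.ptNorm x = p ^ m} := (hfibc (p ^ m)).1.to_subtype
          exact Nat.cast_le.2 (Nat.card_le_card_of_injective
            (fun x : {a : A₂ // H27Zeta.ptNorm a.1.1 = p ^ m} =>
              (⟨x.1.1.1, x.2⟩ : {x : H27Zeta.ClPt X // H27Zeta.ptNorm x = p ^ m}))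
            fun a b h => Subtype.ext (Subtype.ext (Subtype.ext (congrArg
              (fun z : {x : H27Zeta.ClPt X // H27Zeta.ptNorm x = p ^ m} => z.1) h))))
        · exfalso
          have : p = p' := (Nat.prime_dvd_prime_iff_eq hp hp').1
            (hp.dvd_of_dvd_pow (he ▸ dvd_pow_self p (by omega)))
          omega
    rw [← (Equiv.sumCompl fun x : {x // tag x = none} => x.1.1 ∈ W).summable_iff]
    exact Summable.sum _ h1 h2
  -- the series
  have hHor := fun Z => exists_horizontal_series f r hr1 hr (D Z) H₀ hH₀ (hdvd Z)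
  choose hHorS HL hHLd hHL using hHor
  have hVer := fun p : {p : ℕ // p ∈ S} => exists_fibre_series f r hr1 hr p.1 (hS.1 p.2).1
  choose T hT m hm hTd hTsum HR hHRd hHR using hVer
  let ι := {Z : Gc // (D Z).t + 1 = r}
  let κ := Σ p : ULift.{u} {p : ℕ // p ∈ S}, T p.down
  refine ⟨ι, κ, inferInstance, inferInstance, fun i => (D i.1).K, fun i => inferInstance, fun i => inferInstance,
    fun j => j.1.down.1 ^ m _ j.2, fun j => ?_, ?_, fun hirr ⟨x₀, hx₀⟩ => ?_,
    fun s : ℂ => (∑ Z, HL Z s) + (∑ p, HR p s) + ∑' x : {x // tag x = none}, (1 : ℂ) * (H27Zeta.ptNorm x.1 : ℂ) ^ (-s),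
    ?_, fun s hs => ?_⟩
  · exact (hS.1 j.1.down.2).1.two_le.trans (Nat.le_self_pow (by have := hm _ j.2; omega) _)
  · by_contra hne
    rw [not_or, not_nonempty_iff, not_nonempty_iff] at hne
    set σ : ℝ := (r : ℝ) - 1 / 4
    have hσ : (r : ℝ) - 1 / 2 < σ := by simp only [σ]; linarith
    have hσ0 : 0 ≤ σ := by
      have : (1 : ℝ) ≤ r := Nat.one_le_cast.2 hr1
      simp only [σ]; linarith
    refine H27LangWeil.not_summable_ptNorm f r hr hσ0 (by simp only [σ]; linarith) ?_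
    rw [← (Equiv.sigmaFiberEquiv tag).summable_iff, Function.comp_def,
      summable_sigma_of_nonneg fun x => by positivity]
    refine ⟨fun t => ?_, Summable.of_finite⟩
    simp only [Equiv.sigmaFiberEquiv_apply]
    rcases t with _ | Z | p
    · exact hRsum σ hσ
    · rw [← (eL Z).summable_iff]
      exact (hHorS Z σ hσ fun h => hne.1.false ⟨Z, h⟩).congr fun a => rfl
    · rw [← (eR p).summable_iff]
      haveI : IsEmpty (T p) := ⟨fun i => hne.2.false ⟨ULift.up p, i⟩⟩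
      refine (hTsum p inferInstance σ hσ).congr fun y => ?_
      simp only [Function.comp_apply, eR, Equiv.ofBijective_apply, ptNorm_fibPt]
  · have huniv : irreducibleComponents X = {Set.univ} := by
      ext Z
      constructor
      · intro hZ
        exact Set.mem_singleton_iff.2 (hZ.eq_of_subset (IrreducibleSpace.isIrreducible_univ X) (Set.subset_univ Z))
      · rintro rfl
        exact ⟨IrreducibleSpace.isIrreducible_univ X, fun _ _ _ => Set.subset_univ _⟩
    have hone : ∀ Z : irreducibleComponents X, (Z : Set X) = Set.univ := fun Z => by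
      exact Set.mem_singleton_iff.1 ((Set.ext_iff.1 huniv Z.1).1 Z.2)
    haveI := charZero_of_dominant f hx₀
    refine ⟨⟨fun a b => Subtype.ext (Subtype.ext (Subtype.ext ((hone a.1.1).trans (hone b.1.1).symm)))⟩,
      ⟨fun j => ?_⟩⟩
    obtain ⟨⟨⟨p, hpS⟩⟩, i⟩ := j
    refine (hTd ⟨p, hpS⟩ fun hd => ?_).false i
    let R := Set.range (fibIncl f p)
    have hR : topologicalKrullDim R ≤ ((r - 1 : ℕ) : WithBot ℕ∞) := by
      refine dim_le_sub_one_of_generic_notMem hr.le R (fibIncl f p).isClosedEmbedding.isClosed_range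
        fun Z hZ η hη hmem => ?_
      have hηu : IsGenericPoint η (Set.univ : Set X) := hone ⟨Z, hZ⟩ ▸ hη
      obtain ⟨y, rfl⟩ := hmem
      have h0 : (p : X.residueField (fibIncl f p y)) ≠ 0 :=
        natCast_residueField_specializes (hηu.specializes (Set.mem_univ x₀)) p
          (Nat.cast_ne_zero.2 (hS.1 hpS).1.ne_zero)
      refine h0 (((fibIncl f p).residueFieldMap y).hom.injective ?_)
      rw [map_natCast, map_zero]
      let θ : CommRingCat.of (ULift.{u} (ZMod p)) ⟶ (Fib f p).residueField y :=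
        Spec.preimage ((Fib f p).fromSpecResidueField y ≫ fibMap f p)
      rw [← map_natCast θ.hom, show (p : ULift.{u} (ZMod p)) = 0 from ULift.ext _ _ (ZMod.natCast_self p), map_zero]
    rw [H8Props.FieldDim.dim_range (fibIncl f p).isClosedEmbedding.isEmbedding] at hR
    rw [show topologicalKrullDim (Fib f (⟨p, hpS⟩ : {p : ℕ // p ∈ S}).1) = topologicalKrullDim (Fib f p) from rfl] at hd
    rw [hd] at hR
    have : r ≤ r - 1 := by exact_mod_cast hR
    omega
  · have h1 : DifferentiableOn ℂ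
        (fun s : ℂ => ∑' x : {x // tag x = none}, (1 : ℂ) * (H27Zeta.ptNorm x.1 : ℂ) ^ (-s))
        {s | (r : ℝ) - 1 / 2 < s.re} :=
      differentiableOn_dirichlet (fun x : {x // tag x = none} => H27Zeta.ptNorm x.1)
        (fun x => one_le_two.trans (H27Zeta.two_le_ptNorm f x.1)) (fun _ => (1 : ℂ)) ((r : ℝ) - 1 / 2)
        fun σ hσ => (hRsum σ hσ).congr fun x => by rw [norm_one, one_mul]
    exact ((DifferentiableOn.fun_sum fun Z _ => hHLd Z).add (DifferentiableOn.fun_sum fun p _ => hHRd p)).add h1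
  · have hP : Summable fun x : H27Zeta.ClPt X => (H27Zeta.ptNorm x : ℂ) ^ (-s) :=
      Summable.of_norm ((H27Zeta.summable_ptNorm f hr.le s.re hs).congr fun x => by
        rw [Complex.norm_natCast_cpow_of_pos (by have := H27Zeta.two_le_ptNorm f x; omega), Complex.neg_re])
    have hP' := (Equiv.sigmaFiberEquiv tag).summable_iff.2 hP
    rw [← (Equiv.sigmaFiberEquiv tag).tsum_eq]
    refine (hP'.tsum_sigma).trans ?_
    rw [tsum_fintype, Fintype.sum_option, Fintype.sum_sum_type]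
    simp only [Function.comp_apply, Equiv.sigmaFiberEquiv_apply]
    have hl : ∀ Z, ∑' x : {x // tag x = some (Sum.inl Z)}, (H27Zeta.ptNorm x.1 : ℂ) ^ (-s) =
        (if (D Z).t + 1 = r then ∑' P : HeightOneSpectrum (𝓞 (D Z).K),
          (nfNorm (D Z).K P : ℂ) ^ (-(s - ((r - 1 : ℕ) : ℂ))) else 0) + HL Z s := fun Z => by
      rw [← hHL Z s hs, ← (eL Z).tsum_eq]
      rfl
    have hrr : ∀ p, ∑' x : {x // tag x = some (Sum.inr p)}, (H27Zeta.ptNorm x.1 : ℂ) ^ (-s) =
        (∑ i, -Complex.log (1 - ((p.1 ^ m p i : ℕ) : ℂ) ^ ((r : ℂ) - s))) + HR p s := fun p => by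
      rw [← hHR p s hs, ← (eR p).tsum_eq]
      simp only [eR, Equiv.ofBijective_apply, ptNorm_fibPt]
    have hκ : (∑ j : κ, -Complex.log (1 - ((j.1.down.1 ^ m _ j.2 : ℕ) : ℂ) ^ ((r : ℂ) - s))) =
        ∑ p, ∑ i, -Complex.log (1 - ((p.1 ^ m p i : ℕ) : ℂ) ^ ((r : ℂ) - s)) := by
      rw [Fintype.sum_sigma]
      exact Equiv.sum_comp Equiv.ulift fun p : {p : ℕ // p ∈ S} =>
        ∑ i, -Complex.log (1 - ((p.1 ^ m p i : ℕ) : ℂ) ^ ((r : ℂ) - s))
    have hι : (∑ i : ι, ∑' P : HeightOneSpectrum (𝓞 (D i.1).K), (nfNorm (D i.1).K P : ℂ) ^ (-(s - ((r - 1 : ℕ) : ℂ)))) =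
        ∑ Z, if (D Z).t + 1 = r then ∑' P : HeightOneSpectrum (𝓞 (D Z).K),
          (nfNorm (D Z).K P : ℂ) ^ (-(s - ((r - 1 : ℕ) : ℂ))) else 0 := by
      rw [← Finset.sum_filter]
      exact (Finset.sum_subtype (Finset.univ.filter fun Z => (D Z).t + 1 = r) (fun Z => by simp)
        fun Z => ∑' P : HeightOneSpectrum (𝓞 (D Z).K), (nfNorm (D Z).K P : ℂ) ^ (-(s - ((r - 1 : ℕ) : ℂ)))).symm
    rw [Finset.sum_congr rfl fun Z _ => hl Z, Finset.sum_congr rfl fun p _ => hrr p, Finset.sum_add_distrib,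
      Finset.sum_add_distrib]
    rw [hκ, hι]
    simp only [one_mul]
    ring

end Groth.Agent.H27Mero
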