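import Groth.Agent.H27Zeta.EulerCycles
import Mathlib

/-!
# Euler products as exponentials, holomorphic sums on half planes, and simple poles
-/

set_option autoImplicit false
universe u

noncomputable section

open Filter Topology

namespace Groth.Agent.H27Mero

variable {ι : Type u}

/-- The logarithm of a convergent Euler product. -/
theorem tsum_cycTerm_eq_exp (t : ι → ℂ) (hs : Summable fun i => ‖t i‖) (ρ : ℝ) (hρ1 : ρ < 1)
    (hρ : ∀ i, ‖t i‖ ≤ ρ) :
    ∑' α, H27Zeta.cycTerm t α = Complex.exp (∑' i, -Complex.log (1 - t i)) := by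
  obtain ⟨hV, hmul⟩ := H27Zeta.tsum_cycTerm_mul_tsum t hs ρ hρ1 hρ
  have hne : ∀ i, 1 - t i ≠ 0 := fun i h => by
    have := hρ i
    rw [← sub_eq_zero.1 h, norm_one] at this
    linarith
  have hlog : Summable fun i => Complex.log (1 - t i) := by
    have := Complex.summable_log_one_add_of_summable (f := fun i => -t i) hs.of_norm.neg
    simpa only [← sub_eq_add_neg] using this
  have hprod : ∑' S : Finset ι, ∏ i ∈ S, -t i = ∏' i, (1 - t i) := by
    rw [← tprod_one_add hV]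
    simp only [← sub_eq_add_neg]
  rw [hprod, ← Complex.cexp_tsum_eq_tprod hne hlog] at hmul
  rw [tsum_neg, Complex.exp_neg]
  exact eq_inv_of_mul_eq_one_left hmul

/-- Sums of holomorphic functions on a half plane. -/
theorem differentiableOn_halfPlane (F : ι → ℂ → ℂ) (σ₀ : ℝ)
    (hF : ∀ i, DifferentiableOn ℂ (F i) {s | σ₀ < s.re})
    (hb : ∀ σ, σ₀ < σ → ∃ u : ι → ℝ, Summable u ∧ ∀ i (s : ℂ), σ < s.re → ‖F i s‖ ≤ u i) :
    DifferentiableOn ℂ (fun s => ∑' i, F i s) {s | σ₀ < s.re} := by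
  intro s₀ hs₀
  obtain ⟨σ, hσ₀, hσ⟩ := exists_between (show σ₀ < s₀.re from hs₀)
  obtain ⟨u, hu, hle⟩ := hb σ hσ₀
  have hV : IsOpen {s : ℂ | σ < s.re} := isOpen_lt continuous_const Complex.continuous_re
  have := Complex.differentiableOn_tsum_of_summable_norm hu
    (fun i => (hF i).mono fun s (hs : σ < s.re) => hσ₀.trans hs) hV fun i s hs => hle i s hs
  exact (this.differentiableAt (hV.mem_nhds hσ)).differentiableWithinAt

/-- A Dirichlet series over a family is holomorphic to the right of its abscissa. -/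
theorem differentiableOn_dirichlet (N : ι → ℕ) (hN : ∀ i, 1 ≤ N i) (c : ι → ℂ) (σ₀ : ℝ)
    (h : ∀ σ, σ₀ < σ → Summable fun i => ‖c i‖ * (N i : ℝ) ^ (-σ)) :
    DifferentiableOn ℂ (fun s : ℂ => ∑' i, c i * (N i : ℂ) ^ (-s)) {s | σ₀ < s.re} := by
  refine differentiableOn_halfPlane _ σ₀ (fun i => ?_) fun σ hσ => ⟨_, h σ hσ, fun i s hs => ?_⟩
  · exact ((differentiable_id.neg.const_cpow
      (Or.inl (Nat.cast_ne_zero.2 (Nat.one_le_iff_ne_zero.1 (hN i))))).const_mul _).differentiableOn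
  · rw [norm_mul, Complex.norm_natCast_cpow_of_pos (hN i), Complex.neg_re]
    exact mul_le_mul_of_nonneg_left (Real.rpow_le_rpow_of_exponent_le (Nat.one_le_cast.2 (hN i)) (by linarith))
      (norm_nonneg _)

theorem summable_dirichlet (N : ι → ℕ) (hN : ∀ i, 1 ≤ N i) (c : ι → ℂ) (s : ℂ)
    (h : Summable fun i => ‖c i‖ * (N i : ℝ) ^ (-s.re)) : Summable fun i => c i * (N i : ℂ) ^ (-s) :=
  Summable.of_norm (h.congr fun i => by
    rw [norm_mul, Complex.norm_natCast_cpow_of_pos (hN i), Complex.neg_re])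

theorem summable_rpow_anti (N : ι → ℕ) (hN : ∀ i, 1 ≤ N i) {σ τ : ℝ} (hστ : σ ≤ τ)
    (h : Summable fun i => (N i : ℝ) ^ (-σ)) : Summable fun i => (N i : ℝ) ^ (-τ) :=
  h.of_nonneg_of_le (fun i => Real.rpow_nonneg (Nat.cast_nonneg _) _)
    fun i => Real.rpow_le_rpow_of_exponent_le (Nat.one_le_cast.2 (hN i)) (by linarith)

/-- The second order part of the logarithm of an Euler product. -/
def logRem (N : ι → ℕ) (s : ℂ) : ℂ :=
  ∑' i, (-Complex.log (1 - (N i : ℂ) ^ (-s)) - (N i : ℂ) ^ (-s))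

theorem norm_cpow_le {n : ℕ} (hn : 2 ≤ n) {σ : ℝ} (hσ : 0 ≤ σ) {s : ℂ} (hs : σ ≤ s.re) :
    ‖(n : ℂ) ^ (-s)‖ ≤ (2 : ℝ) ^ (-σ) := by
  rw [Complex.norm_natCast_cpow_of_pos (by omega), Complex.neg_re]
  exact (Real.rpow_le_rpow_of_exponent_le (by exact_mod_cast (by omega : 1 ≤ n)) (by linarith)).trans
    (Real.rpow_le_rpow_of_nonpos two_pos (by exact_mod_cast hn) (by linarith))

theorem norm_logRem_term_le {n : ℕ} (hn : 2 ≤ n) {σ : ℝ} (hσ : 0 < σ) {s : ℂ} (hs : σ ≤ s.re) :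
    ‖-Complex.log (1 - (n : ℂ) ^ (-s)) - (n : ℂ) ^ (-s)‖ ≤ (1 - (2 : ℝ) ^ (-σ))⁻¹ * (n : ℝ) ^ (-(2 * σ)) := by
  set z := (n : ℂ) ^ (-s)
  have hρ : (2 : ℝ) ^ (-σ) < 1 := Real.rpow_lt_one_of_one_lt_of_neg one_lt_two (by linarith)
  have hz : ‖z‖ ≤ (2 : ℝ) ^ (-σ) := norm_cpow_le hn hσ.le hs
  have h := Complex.norm_log_one_add_sub_self_le (z := -z) (by rw [norm_neg]; linarith)
  rw [norm_neg, ← sub_eq_add_neg, sub_neg_eq_add] at h
  rw [← neg_add', norm_neg]
  refine h.trans ?_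
  have hz2 : ‖z‖ ^ 2 ≤ (n : ℝ) ^ (-(2 * σ)) := by
    rw [show -(2 * σ) = -σ * (2 : ℕ) by push_cast; ring, Real.rpow_mul (Nat.cast_nonneg n), Real.rpow_natCast]
    refine pow_le_pow_left₀ (norm_nonneg _) ?_ 2
    rw [Complex.norm_natCast_cpow_of_pos (by omega), Complex.neg_re]
    exact Real.rpow_le_rpow_of_exponent_le (by exact_mod_cast (by omega : 1 ≤ n)) (by linarith)
  calc ‖z‖ ^ 2 * (1 - ‖z‖)⁻¹ / 2 ≤ (n : ℝ) ^ (-(2 * σ)) * (1 - (2 : ℝ) ^ (-σ))⁻¹ / 2 := by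
        refine div_le_div_of_nonneg_right (mul_le_mul hz2 ?_ (inv_nonneg.2 (by linarith)) (by positivity)) two_pos.le
        exact inv_anti₀ (by linarith) (by linarith)
    _ ≤ _ := by
        have : 0 ≤ (1 - (2 : ℝ) ^ (-σ))⁻¹ * (n : ℝ) ^ (-(2 * σ)) :=
          mul_nonneg (inv_nonneg.2 (by linarith)) (by positivity)
        linarith

theorem differentiableOn_logRem (N : ι → ℕ) (h2 : ∀ i, 2 ≤ N i) (σ₀ : ℝ) (hσ₀ : 0 ≤ σ₀)
    (h : ∀ σ, σ₀ < σ → Summable fun i => (N i : ℝ) ^ (-(2 * σ))) :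
    DifferentiableOn ℂ (logRem N) {s | σ₀ < s.re} := by
  refine differentiableOn_halfPlane _ σ₀ (fun i s hs => ?_) fun σ hσ =>
    ⟨_, (h σ hσ).mul_left (1 - (2 : ℝ) ^ (-σ))⁻¹, fun i s hs => norm_logRem_term_le (h2 i) (hσ₀.trans_lt hσ) hs.le⟩
  have hd : DifferentiableAt ℂ (fun s : ℂ => (N i : ℂ) ^ (-s)) s :=
    differentiableAt_id.neg.const_cpow (Or.inl (Nat.cast_ne_zero.2 (by have := h2 i; omega)))
  have hs0 : 0 < s.re := hσ₀.trans_lt hs
  refine (((((differentiableAt_const 1).sub hd).clog ?_).neg).sub hd).differentiableWithinAt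
  left
  have h1 : ((N i : ℂ) ^ (-s)).re ≤ ‖(N i : ℂ) ^ (-s)‖ := Complex.re_le_norm _
  have h3 := norm_cpow_le (h2 i) hs0.le (le_refl s.re)
  have h4 : (2 : ℝ) ^ (-s.re) < 1 := Real.rpow_lt_one_of_one_lt_of_neg one_lt_two (by linarith)
  simp only [Pi.sub_apply, Complex.sub_re, Complex.one_re]
  linarith

/-- **Euler product**: a cycle series is the exponential of the prime series plus a remainder. -/
theorem lseries_eq_exp (N : ι → ℕ) (h2 : ∀ i, 2 ≤ N i) (hfin : ∀ n, {i | N i = n}.Finite) (a : ℕ → ℕ)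
    (ha : ∀ n, a n = Nat.card {α : ι →₀ ℕ // H27Zeta.cycNorm N α = n}) (s : ℂ) (hσ : 0 < s.re)
    (hs : Summable fun i => (N i : ℝ) ^ (-s.re)) :
    LSeries (fun n => (a n : ℂ)) s = Complex.exp ((∑' i, (N i : ℂ) ^ (-s)) + logRem N s) := by
  classical
  set t : ι → ℂ := fun i => (N i : ℂ) ^ (-s)
  have htn : ∀ i, ‖t i‖ = (N i : ℝ) ^ (-s.re) := fun i => by
    simp only [t, Complex.norm_natCast_cpow_of_pos (show 0 < N i by have := h2 i; omega), Complex.neg_re]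
  have hsum : Summable fun i => ‖t i‖ := by simpa only [htn] using hs
  have hρ : ∀ i, ‖t i‖ ≤ (2 : ℝ) ^ (-s.re) := fun i => norm_cpow_le (h2 i) hσ.le le_rfl
  have hρ1 : (2 : ℝ) ^ (-s.re) < 1 := Real.rpow_lt_one_of_one_lt_of_neg one_lt_two (by linarith)
  have hT := H27Zeta.summable_cycTerm t hsum _ hρ1 hρ
  let e := Equiv.sigmaFiberEquiv (H27Zeta.cycNorm N)
  haveI : ∀ n, Finite {α : ι →₀ ℕ // H27Zeta.cycNorm N α = n} := fun n =>
    (H27Zeta.finite_cycNorm_fibre h2 hfin n).to_subtype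
  have hterm : ∀ n, HasSum (fun α : {α : ι →₀ ℕ // H27Zeta.cycNorm N α = n} => H27Zeta.cycTerm t α.1)
      (LSeries.term (fun n => (a n : ℂ)) s n) := by
    intro n
    cases nonempty_fintype {α : ι →₀ ℕ // H27Zeta.cycNorm N α = n}
    convert hasSum_fintype (fun α : {α : ι →₀ ℕ // H27Zeta.cycNorm N α = n} => H27Zeta.cycTerm t α.1) using 1
    rw [Finset.sum_congr rfl fun α _ => show H27Zeta.cycTerm t α.1 = (n : ℂ) ^ (-s) by
      rw [← H27Zeta.natCast_cycNorm_cpow, α.2], Finset.sum_const, Finset.card_univ, ← Nat.card_eq_fintype_card,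
      ← ha, nsmul_eq_mul]
    rcases Nat.eq_zero_or_pos n with rfl | hn
    · simp [Complex.zero_cpow (neg_ne_zero.mpr fun h : s = 0 => by rw [h] at hσ; simp at hσ)]
    · rw [LSeries.term_of_ne_zero hn.ne', Complex.cpow_neg, div_eq_mul_inv]
  have hL := ((e.hasSum_iff (f := H27Zeta.cycTerm t)).mpr hT.of_norm.hasSum).sigma hterm
  rw [LSeries, hL.tsum_eq, tsum_cycTerm_eq_exp t hsum _ hρ1 hρ]
  have hrem : Summable fun i => -Complex.log (1 - t i) - t i := by
    have := Complex.summable_log_one_add_of_summable (f := fun i => -t i) hsum.of_norm.neg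
    exact (by simpa only [← sub_eq_add_neg] using this : Summable fun i => Complex.log (1 - t i)).neg.sub hsum.of_norm
  rw [logRem, ← hsum.of_norm.tsum_add hrem]
  simp

theorem meromorphicOrderAt_simplePole {G : ℂ → ℂ} {x : ℂ} (hG : AnalyticAt ℂ G x) (hx : G x ≠ 0) :
    MeromorphicAt (fun s => G s / (s - x)) x ∧ meromorphicOrderAt (fun s => G s / (s - x)) x = -1 := by
  have hm : MeromorphicAt (fun s => G s / (s - x)) x := hG.meromorphicAt.div (by fun_prop)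
  refine ⟨hm, (meromorphicOrderAt_eq_int_iff hm).2 ⟨G, hG, hx, Eventually.of_forall fun z => ?_⟩⟩
  rw [zpow_neg_one, smul_eq_mul, div_eq_inv_mul]

theorem meromorphicOrderAt_inv_one_sub {Q : ℕ} (hQ : 2 ≤ Q) (r : ℕ) :
    (∀ s, MeromorphicAt (fun s : ℂ => (1 - (Q : ℂ) ^ ((r : ℂ) - s))⁻¹) s) ∧
      meromorphicOrderAt (fun s : ℂ => (1 - (Q : ℂ) ^ ((r : ℂ) - s))⁻¹) r < 0 := by
  have hQ0 : (Q : ℂ) ≠ 0 := Nat.cast_ne_zero.2 (by omega)
  set h : ℂ → ℂ := fun s => 1 - (Q : ℂ) ^ ((r : ℂ) - s)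
  have hd : Differentiable ℂ h :=
    (differentiable_const 1).sub (((differentiable_const _).sub differentiable_id).const_cpow (Or.inl hQ0))
  have hm : ∀ s, MeromorphicAt h s := fun s => (hd.analyticAt s).meromorphicAt
  refine ⟨fun s => (hm s).inv, ?_⟩
  have hpos : 0 < meromorphicOrderAt h r := by
    rw [← tendsto_zero_iff_meromorphicOrderAt_pos (hm r)]
    have : Tendsto h (𝓝[≠] (r : ℂ)) (𝓝 (h r)) := (hd (r : ℂ)).continuousAt.tendsto.mono_left nhdsWithin_le_nhds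
    simpa [h] using this
  have hne : meromorphicOrderAt h r ≠ ⊤ := by
    intro htop
    rw [meromorphicOrderAt_eq_top_iff] at htop
    have h1 : ∀ z ∈ (Set.univ : Set ℂ), h z = 0 := fun z hz =>
      ((Complex.analyticOnNhd_univ_iff_differentiable.2 hd).eqOn_zero_of_preconnected_of_frequently_eq_zero
        isPreconnected_univ (Set.mem_univ (r : ℂ)) htop.frequently) hz
    have h2 := h1 ((r : ℂ) + 1) trivial
    simp only [h, sub_add_cancel_left, Complex.cpow_neg_one, sub_eq_zero] at h2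
    have h3 : (Q : ℂ) = ((1 : ℕ) : ℂ) := by rw [Nat.cast_one]; exact inv_eq_one.1 h2.symm
    have := Nat.cast_injective h3
    omega
  obtain ⟨m, hm'⟩ := WithTop.ne_top_iff_exists.1 hne
  rw [← hm'] at hpos
  rw [show (fun s : ℂ => (1 - (Q : ℂ) ^ ((r : ℂ) - s))⁻¹) = h⁻¹ from rfl, meromorphicOrderAt_inv, ← hm']
  norm_cast at hpos ⊢
  omega

end Groth.Agent.H27Mero
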