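import Groth.Agent.H27Zeta.ClosedPoints
import Mathlib

/-!
# Closed points in the fibre over a prime; dimensions of small closed subsets
-/

set_option autoImplicit false
universe u

noncomputable section

open CategoryTheory CategoryTheory.Limits AlgebraicGeometry TopologicalSpace

namespace Groth.Agent.H27Mero

theorem natCast_eq_zero_iff_dvd_card (F : Type u) [Field F] [Finite F] {p : ℕ} (hp : p.Prime) :
    (p : F) = 0 ↔ p ∣ Nat.card F := by
  cases nonempty_fintype F
  obtain ⟨⟨m, hm⟩, hq, hcard⟩ := FiniteField.card F (ringChar F)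
  rw [Nat.card_eq_fintype_card, hcard, PNat.mk_coe]
  constructor
  · intro h
    have h1 : ringChar F ∣ p := ringChar.dvd h
    rw [← (Nat.prime_dvd_prime_iff_eq hq hp).1 h1]
    exact dvd_pow_self _ hm.ne'
  · intro h
    rw [(Nat.prime_dvd_prime_iff_eq hp hq).1 (hp.dvd_of_dvd_pow h), ringChar.spec]

/-- The reduction map. -/
def redMap (p : ℕ) : CommRingCat.of (ULift.{u} ℤ) ⟶ CommRingCat.of (ULift.{u} (ZMod p)) :=
  CommRingCat.ofHom ((ULift.ringEquiv.{0, u}.symm.toRingHom.comp (Int.castRingHom (ZMod p))).comp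
    ULift.ringEquiv.toRingHom)

theorem redMap_surjective (p : ℕ) : Function.Surjective (redMap.{u} p).hom := fun y => by
  obtain ⟨z, hz⟩ := ZMod.intCast_surjective y.down
  exact ⟨⟨z⟩, ULift.ext _ _ hz⟩

theorem redMap_eq_zero_iff (p : ℕ) (z : ULift.{u} ℤ) : (redMap.{u} p).hom z = 0 ↔ (p : ℤ) ∣ z.down := by
  rw [← ZMod.intCast_zmod_eq_zero_iff_dvd]
  exact ⟨fun h => congrArg ULift.down h, fun h => ULift.ext _ _ h⟩

variable {X : Scheme.{u}} (f : X ⟶ Spec (CommRingCat.of (ULift.{u} ℤ)))

/-- The fibre over a prime. -/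
abbrev Fib (p : ℕ) : Scheme.{u} := pullback f (Spec.map (redMap p))

instance (p : ℕ) : IsClosedImmersion (Spec.map (redMap.{u} p)) :=
  IsClosedImmersion.spec_of_surjective _ (redMap_surjective p)

/-- The structure morphism of the fibre. -/
abbrev fibMap (p : ℕ) : Fib f p ⟶ Spec (CommRingCat.of (ULift.{u} (ZMod p))) := pullback.snd f (Spec.map (redMap p))

/-- The inclusion of the fibre. -/
abbrev fibIncl (p : ℕ) : Fib f p ⟶ X := pullback.fst f (Spec.map (redMap p))

theorem dim_fib_le (p : ℕ) : topologicalKrullDim (Fib f p) ≤ topologicalKrullDim X :=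
  (fibIncl f p).isClosedEmbedding.isInducing.topologicalKrullDim_le

theorem mem_range_fibIncl [LocallyOfFiniteType f] (p : ℕ) (hp : p.Prime) (x : H27Zeta.ClPt X) :
    x.1 ∈ Set.range (fibIncl f p) ↔ p ∣ H27Zeta.ptNorm x := by
  haveI := H27Zeta.finite_residueField_of_isClosed f x.2
  rw [H27Zeta.ptNorm, ← natCast_eq_zero_iff_dvd_card _ hp, Scheme.Pullback.range_fst, Set.mem_preimage]
  let ψ : CommRingCat.of (ULift.{u} ℤ) ⟶ X.residueField x.1 := Spec.preimage (X.fromSpecResidueField x.1 ≫ f)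
  have hψ : Spec.map ψ = X.fromSpecResidueField x.1 ≫ f := Spec.map_preimage _
  have hfx : f x.1 = (Spec.map ψ) (IsLocalRing.closedPoint _) := by
    rw [hψ, Scheme.Hom.comp_apply, Scheme.fromSpecResidueField_apply]
  have hrange : Set.range (Spec.map (redMap.{u} p)) = PrimeSpectrum.zeroLocus (RingHom.ker (redMap.{u} p).hom) :=
    range_comap_of_surjective _ _ (redMap_surjective p)
  rw [hrange, hfx]
  change (RingHom.ker (redMap.{u} p).hom : Set (ULift.{u} ℤ)) ⊆
    (Ideal.comap ψ.hom (IsLocalRing.closedPoint (X.residueField x.1)).asIdeal : Ideal _) ↔ _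
  rw [show (IsLocalRing.closedPoint (X.residueField x.1)).asIdeal = ⊥ from IsLocalRing.maximalIdeal_eq_bot]
  constructor
  · intro h
    have h1 : ψ.hom (p : ULift.{u} ℤ) = 0 := h (show (p : ULift.{u} ℤ) ∈ RingHom.ker (redMap.{u} p).hom by
      rw [RingHom.mem_ker, redMap_eq_zero_iff]; simp)
    rwa [map_natCast] at h1
  · intro h z hz
    obtain ⟨c, hc⟩ := (redMap_eq_zero_iff p z).1 hz
    have hz' : z = (p : ULift.{u} ℤ) * ⟨c⟩ := ULift.ext _ _ hc
    show ψ.hom z = 0
    rw [hz', map_mul, map_natCast, h, zero_mul]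

/-- Closed points of the fibre. -/
def fibPt (p : ℕ) (y : H27Zeta.ClPt (Fib f p)) : H27Zeta.ClPt X :=
  ⟨fibIncl f p y.1, by
    simpa [Set.image_singleton] using (fibIncl f p).isClosedEmbedding.isClosedMap _ y.2⟩

theorem fibPt_injective (p : ℕ) : Function.Injective (fibPt f p) := fun _ _ h =>
  Subtype.ext ((fibIncl f p).isClosedEmbedding.injective (congrArg (fun x : H27Zeta.ClPt X => x.1) h))

theorem ptNorm_fibPt (p : ℕ) (y : H27Zeta.ClPt (Fib f p)) :
    H27Zeta.ptNorm (fibPt f p y) = H27Zeta.ptNorm y := by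
  refine Nat.card_congr (Equiv.ofBijective _ ⟨RingHom.injective ((fibIncl f p).residueFieldMap y.1).hom,
    fun z => ?_⟩)
  obtain ⟨z, rfl⟩ := IsLocalRing.residue_surjective z
  obtain ⟨w, rfl⟩ := (fibIncl f p).stalkMap_surjective y.1 z
  exact ⟨X.residue _ w, congrArg (fun φ : X.presheaf.stalk _ ⟶ _ => φ.hom w)
    (Scheme.residue_residueFieldMap (fibIncl f p) y.1)⟩

theorem exists_fibPt [LocallyOfFiniteType f] (p : ℕ) (hp : p.Prime) (x : H27Zeta.ClPt X)
    (h : p ∣ H27Zeta.ptNorm x) : ∃ y, fibPt f p y = x := by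
  obtain ⟨y, hy⟩ := (mem_range_fibIncl f p hp x).2 h
  refine ⟨⟨y, ?_⟩, Subtype.ext hy⟩
  have := x.2.preimage (fibIncl f p).continuous
  convert this
  ext z
  exact ⟨fun hz => by rw [Set.mem_singleton_iff.1 hz]; exact hy,
    fun hz => (fibIncl f p).isClosedEmbedding.injective ((Set.mem_singleton_iff.1 hz).trans hy.symm)⟩

theorem dvd_ptNorm_fibPt [LocallyOfFiniteType f] (p : ℕ) (hp : p.Prime) (y : H27Zeta.ClPt (Fib f p)) :
    p ∣ H27Zeta.ptNorm (fibPt f p y) := (mem_range_fibIncl f p hp _).1 ⟨y.1, rfl⟩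

theorem le_sub_one_of_lt {d : WithBot ℕ∞} {r : ℕ} (hd : d < (r : WithBot ℕ∞)) :
    d ≤ ((r - 1 : ℕ) : WithBot ℕ∞) := by
  induction d with
  | bot => exact bot_le
  | coe a =>
    induction a with
    | top => exact absurd hd (not_lt_of_ge (WithBot.coe_le_coe.2 le_top))
    | coe n =>
      have h : n < r := by exact_mod_cast hd
      exact WithBot.coe_le_coe.2 (Nat.cast_le.2 (Nat.le_sub_one_of_lt h))

/-- A closed subset missing all generic points has smaller dimension. -/
theorem dim_lt_of_generic_notMem {T : Type u} [TopologicalSpace T] [QuasiSober T] {r : ℕ}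
    (hr : topologicalKrullDim T ≤ r) (W : Set T) (hW : IsClosed W)
    (hgen : ∀ Z ∈ irreducibleComponents T, ∀ η, IsGenericPoint η Z → η ∉ W) :
    topologicalKrullDim W < (r : WithBot ℕ∞) ∨ topologicalKrullDim W = ⊥ := by
  rcases isEmpty_or_nonempty (IrreducibleCloseds W) with he | hne
  · exact Or.inr Order.krullDim_eq_bot
  left
  by_contra hlt
  obtain ⟨l, hl⟩ := Order.le_krullDim_iff.1 (not_lt.1 hlt : ((r : ℕ) : WithBot ℕ∞) ≤ Order.krullDim (IrreducibleCloseds W))
  have hind : Topology.IsInducing (Subtype.val : W → T) := Topology.IsInducing.subtypeVal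
  let m := IrreducibleCloseds.map (Subtype.val : W → T) continuous_subtype_val
  let L := l.map m (IrreducibleCloseds.map_strictMono_of_isInducing hind)
  have hlast : (L.last : Set T) ⊆ W := by
    change closure (Subtype.val '' (l.last : Set W)) ⊆ W
    refine closure_minimal ?_ hW
    rintro _ ⟨w, -, rfl⟩
    exact w.2
  obtain ⟨x, hx⟩ := L.last.isIrreducible.nonempty
  let η := (L.last.isIrreducible).genericPoint
  let Z := irreducibleComponent η
  have hsub : (L.last : Set T) ⊆ Z := by
    rw [← (L.last.isIrreducible.isGenericPoint_genericPoint L.last.isClosed).def]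
    exact closure_minimal (Set.singleton_subset_iff.2 mem_irreducibleComponent) isClosed_irreducibleComponent
  let ZC : IrreducibleCloseds T := ⟨Z, isIrreducible_irreducibleComponent, isClosed_irreducibleComponent⟩
  have hne' : L.last ≠ ZC := fun h => by
    obtain ⟨η', hη'⟩ := QuasiSober.sober isIrreducible_irreducibleComponent (isClosed_irreducibleComponent (x := η))
    refine hgen Z (irreducibleComponent_mem_irreducibleComponents η) η' hη' (hlast ?_)
    rw [h]
    exact hη'.mem
  have hlt' : L.last < ZC := lt_of_le_of_ne hsub hne'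
  have h2 := Order.LTSeries.length_le_krullDim (L.snoc ZC hlt')
  rw [RelSeries.snoc_length, show L.length = l.length from rfl, hl] at h2
  have h3 : ((r + 1 : ℕ) : WithBot ℕ∞) ≤ (r : ℕ) := le_trans h2 hr
  have h4 : r + 1 ≤ r := by exact_mod_cast h3
  omega

theorem dim_le_sub_one_of_generic_notMem {T : Type u} [TopologicalSpace T] [QuasiSober T] {r : ℕ}
    (hr : topologicalKrullDim T ≤ r) (W : Set T) (hW : IsClosed W)
    (hgen : ∀ Z ∈ irreducibleComponents T, ∀ η, IsGenericPoint η Z → η ∉ W) :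
    topologicalKrullDim W ≤ ((r - 1 : ℕ) : WithBot ℕ∞) := by
  rcases dim_lt_of_generic_notMem hr W hW hgen with h | h
  · exact le_sub_one_of_lt h
  · rw [h]; exact bot_le

end Groth.Agent.H27Mero
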