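import Groth.Agent.H27Mero.Decomp
import Groth.Agent.H27Mero.Euler
import Groth.Agent.H27LangWeil.Abscissa
import Mathlib

/-!
# Meromorphic continuation of the zeta function of an arithmetic scheme
-/

set_option autoImplicit false
set_option maxHeartbeats 1000000
universe u

noncomputable section

open CategoryTheory AlgebraicGeometry TopologicalSpace NumberField IsDedekindDomain Filter Topology

namespace Groth.Agent.H27Mero

theorem finite_of_dim_zero {X : Scheme.{u}} [IsNoetherian X] (hr : topologicalKrullDim X = ((0 : ℕ) : WithBot ℕ∞)) :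
    Finite X ∧ ∀ x : X, IsClosed ({x} : Set X) := by
  have hr' : Order.krullDim (IrreducibleCloseds X) ≤ 0 := le_of_eq hr
  let C : X → IrreducibleCloseds X := fun x => ⟨closure {x}, isIrreducible_singleton.closure, isClosed_closure⟩
  have hmax : ∀ A B : IrreducibleCloseds X, A ≤ B → A = B := fun A B h => by
    by_contra hne
    have h1 : Order.height A + 1 ≤ Order.height B := Order.height_add_one_le (lt_of_le_of_ne h hne)
    have h2 := (Order.height_le_krullDim B).trans hr'
    have h3 : Order.height B ≤ 0 := by exact_mod_cast h2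
    exact absurd (le_trans h1 h3) (by simp)
  have hcl : ∀ x : X, IsClosed ({x} : Set X) := fun x => by
    rw [← closure_eq_iff_isClosed]
    refine Set.Subset.antisymm (fun y hy => ?_) subset_closure
    have h := hmax (C y) (C x) (closure_minimal (Set.singleton_subset_iff.2 hy) isClosed_closure)
    have h1 : closure ({y} : Set X) = closure {x} := congrArg (fun Z : IrreducibleCloseds X => (Z : Set X)) h
    exact Set.mem_singleton_iff.2 (inseparable_iff_closure_eq.2 h1).eq
  haveI := (TopologicalSpace.NoetherianSpace.finite_irreducibleComponents (α := X)).to_subtype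
  refine ⟨Finite.of_injective (fun x => (⟨irreducibleComponent x, irreducibleComponent_mem_irreducibleComponents x⟩ :
    irreducibleComponents X)) fun x y h => ?_, hcl⟩
  have hx : ∀ x : X, irreducibleComponent x = {x} := fun x => by
    have hh := hmax (C x) ⟨irreducibleComponent x, isIrreducible_irreducibleComponent, isClosed_irreducibleComponent⟩
      (closure_minimal (Set.singleton_subset_iff.2 mem_irreducibleComponent) isClosed_irreducibleComponent)
    exact (congrArg (fun Z : IrreducibleCloseds X => (Z : Set X)) hh).symm.trans (hcl x).closure_eq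
  have h' := congrArg Subtype.val h
  simp only [hx] at h'
  exact Set.singleton_injective h'

theorem meromorphicAt_finset_prod {ι : Type*} (s : Finset ι) (F : ι → ℂ → ℂ) (x : ℂ)
    (h : ∀ i ∈ s, MeromorphicAt (F i) x) : MeromorphicAt (fun z => ∏ i ∈ s, F i z) x := by
  classical
  induction s using Finset.induction with
  | empty => simpa using MeromorphicAt.const (1 : ℂ) x
  | insert a t ha ih =>
    simp only [Finset.prod_insert ha]
    exact (h a (Finset.mem_insert_self a t)).fun_mul (ih fun i hi => h i (Finset.mem_insert_of_mem hi))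

theorem order_finset_prod {ι : Type*} (s : Finset ι) (F : ι → ℂ → ℂ) (x : ℂ)
    (h : ∀ i ∈ s, MeromorphicAt (F i) x) :
    meromorphicOrderAt (fun z => ∏ i ∈ s, F i z) x = ∑ i ∈ s, meromorphicOrderAt (F i) x := by
  classical
  induction s using Finset.induction with
  | empty => simp [meromorphicOrderAt_const]
  | insert a t ha ih =>
    simp only [Finset.prod_insert ha, Finset.sum_insert ha]
    rw [← ih fun i hi => h i (Finset.mem_insert_of_mem hi)]
    exact meromorphicOrderAt_mul (h a (Finset.mem_insert_self a t))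
      (meromorphicAt_finset_prod t F x fun i hi => h i (Finset.mem_insert_of_mem hi))

theorem order_sum_neg {ι : Type*} (s : Finset ι) (hs : s.Nonempty) (o : ι → WithTop ℤ) (h : ∀ i ∈ s, o i < 0) :
    ∑ i ∈ s, o i < 0 := by
  classical
  induction hs using Finset.Nonempty.cons_induction with
  | singleton a => simpa using h a (Finset.mem_singleton_self a)
  | cons a t ha ht ih =>
    rw [Finset.sum_cons]
    have h1 := h a (Finset.mem_cons_self a t)
    have h2 := ih fun i hi => h i (Finset.mem_cons_of_mem hi)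
    obtain ⟨m, hm⟩ := WithTop.ne_top_iff_exists.1 h1.ne_top
    obtain ⟨n, hn⟩ := WithTop.ne_top_iff_exists.1 h2.ne_top
    rw [← hm] at h1; rw [← hn] at h2
    rw [← hm, ← hn]
    norm_cast at h1 h2 ⊢
    omega

variable {X : Scheme.{u}} (f : X ⟶ Spec (CommRingCat.of (ULift.{u} ℤ))) [LocallyOfFiniteType f] [QuasiCompact f]

include f in
theorem lseries_arith_eq_exp {r : ℕ} (hr : topologicalKrullDim X ≤ r) {s : ℂ} (hs : (r : ℝ) < s.re) :
    LSeries (Zeta.arithCoeff X) s =
      Complex.exp ((∑' x : H27Zeta.ClPt X, (H27Zeta.ptNorm x : ℂ) ^ (-s)) + logRem (H27Zeta.ptNorm (X := X)) s) := by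
  obtain ⟨c, p₀, -, h⟩ := H27Zeta.ptNorm_fibre f hr
  exact lseries_eq_exp H27Zeta.ptNorm (H27Zeta.two_le_ptNorm f) (fun n => (h n).1) (Zeta.cycleNormCount X)
    H27Zeta.cycleNormCount_eq s ((Nat.cast_nonneg r).trans_lt hs) (H27Zeta.summable_ptNorm f hr s.re hs)

/-- **Meromorphic continuation**. -/
theorem exists_continuation (r : ℕ) (hr : topologicalKrullDim X = r) :
    ∃ ε : ℝ, 0 < ε ∧ ∃ g : ℂ → ℂ, MeromorphicOn g {s : ℂ | (r : ℝ) - ε < s.re} ∧
      (∀ s : ℂ, (r : ℝ) < s.re → g s = LSeries (Zeta.arithCoeff X) s) ∧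
      meromorphicOrderAt g (r : ℂ) < 0 ∧
      (IrreducibleSpace X → (∃ x : X, closure ({f x} : Set (Spec (CommRingCat.of (ULift.{u} ℤ)))) = Set.univ) →
        meromorphicOrderAt g (r : ℂ) = -1 ∧
          ∀ s : ℂ, (r : ℝ) - ε < s.re → s ≠ (r : ℂ) → 0 ≤ meromorphicOrderAt g s) := by
  classical
  rcases Nat.eq_zero_or_pos r with rfl | hr1
  · haveI : IsNoetherianRing (CommRingCat.of (ULift.{u} ℤ)) :=
      isNoetherianRing_of_ringEquiv ℤ (ULift.ringEquiv (R := ℤ)).symm
    haveI : IsLocallyNoetherian X := LocallyOfFiniteType.isLocallyNoetherian f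
    haveI : CompactSpace X := QuasiCompact.compactSpace_of_compactSpace f
    haveI : IsNoetherian X := ⟨⟩
    obtain ⟨hfin, hcl⟩ := finite_of_dim_zero hr
    haveI : Nonempty X := by
      by_contra hne
      rw [not_nonempty_iff] at hne
      rw [topologicalKrullDim, Order.krullDim_eq_bot_iff.2 ⟨fun Z => hne.false Z.isIrreducible.nonempty.some⟩] at hr
      exact WithBot.bot_ne_coe hr
    haveI : Finite (H27Zeta.ClPt X) := Subtype.finite
    haveI : Nonempty (H27Zeta.ClPt X) := ⟨⟨Classical.arbitrary X, hcl _⟩⟩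
    cases nonempty_fintype (H27Zeta.ClPt X)
    let F : H27Zeta.ClPt X → ℂ → ℂ := fun x s => (1 - (H27Zeta.ptNorm x : ℂ) ^ (((0 : ℕ) : ℂ) - s))⁻¹
    have hF := fun x : H27Zeta.ClPt X => meromorphicOrderAt_inv_one_sub (H27Zeta.two_le_ptNorm f x) 0
    refine ⟨1 / 2, by norm_num, fun s => ∏ x, F x s,
      fun s _ => meromorphicAt_finset_prod _ _ _ fun x _ => (hF x).1 s, fun s hs => ?_, ?_, fun _ ⟨x₀, hx₀⟩ => ?_⟩
    · rw [lseries_arith_eq_exp f hr.le hs, logRem, tsum_fintype, tsum_fintype, ← Finset.sum_add_distrib,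
        Complex.exp_sum]
      refine Finset.prod_congr rfl fun x _ => ?_
      simp only [F, Nat.cast_zero, zero_sub, add_sub_cancel, Complex.exp_neg]
      rw [Complex.exp_log]
      intro h0
      have := norm_cpow_le (H27Zeta.two_le_ptNorm f x) (σ := s.re) (le_of_lt (by simpa using hs)) le_rfl
      rw [← sub_eq_zero.1 h0, norm_one] at this
      have h2 : (2 : ℝ) ^ (-s.re) < 1 :=
        Real.rpow_lt_one_of_one_lt_of_neg one_lt_two (by simpa using hs)
      linarith
    · rw [order_finset_prod _ _ _ fun x _ => (hF x).1 _]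
      exact order_sum_neg _ Finset.univ_nonempty _ fun x _ => (hF x).2
    · exfalso
      haveI := charZero_of_dominant f hx₀
      haveI := H27Zeta.finite_residueField_of_isClosed f (hcl x₀)
      exact not_finite (X.residueField x₀)
  obtain ⟨ι, κ, hι, hκ, K, hK, hNF, Q, hQ, hne, hirr, H, hH, hser⟩ := exists_prime_series f r hr1 hr
  choose δ hδ0 hδ1 G hG hG1 hGz using fun i : ι => H27Dedekind.exists_continuation (K i)
  let E : Finset ℝ := insert (1 / 2 : ℝ) (Finset.univ.image δ)
  let ε : ℝ := E.min' (Finset.insert_nonempty _ _)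
  have hε0 : 0 < ε := by
    rw [Finset.lt_min'_iff]
    intro y hy
    rcases Finset.mem_insert.1 hy with rfl | hy
    · norm_num
    · obtain ⟨i, -, rfl⟩ := Finset.mem_image.1 hy
      exact hδ0 i
  have hε2 : ε ≤ 1 / 2 := Finset.min'_le _ _ (Finset.mem_insert_self _ _)
  have hεδ : ∀ i, ε ≤ δ i := fun i =>
    Finset.min'_le _ _ (Finset.mem_insert_of_mem (Finset.mem_image_of_mem _ (Finset.mem_univ i)))
  let U : Set ℂ := {s | (r : ℝ) - ε < s.re}
  have hUo : IsOpen U := isOpen_lt continuous_const Complex.continuous_re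
  have hr1' : (1 : ℝ) ≤ r := Nat.one_le_cast.2 hr1
  have hsh : ∀ s : ℂ, (s - ((r - 1 : ℕ) : ℂ)).re = s.re - ((r : ℝ) - 1) := fun s => by
    rw [Complex.sub_re, Complex.natCast_re, Nat.cast_sub hr1, Nat.cast_one]
  let E₀ : ℂ → ℂ := fun s => H s + logRem (H27Zeta.ptNorm (X := X)) s - ∑ i, logRem (nfNorm (K i)) (s - ((r - 1 : ℕ) : ℂ))
  have hE₀ : DifferentiableOn ℂ E₀ U := by
    refine ((hH.mono ?_).add ((differentiableOn_logRem _ (H27Zeta.two_le_ptNorm f) ((r : ℝ) - 1 / 2) (by linarith)
      fun σ hσ => H27Zeta.summable_ptNorm f hr.le (2 * σ) (by linarith)).mono ?_)).sub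
      (DifferentiableOn.fun_sum fun i _ => ?_)
    · exact fun s (hs : (r : ℝ) - ε < s.re) => show (r : ℝ) - 1 / 2 < s.re by linarith
    · exact fun s (hs : (r : ℝ) - ε < s.re) => show (r : ℝ) - 1 / 2 < s.re by linarith
    · refine (differentiableOn_logRem (nfNorm (K i)) H27LangWeil.two_le_absNorm (1 / 2) (by norm_num)
        fun σ hσ => summable_primes (K i) (by linarith)).comp (differentiableOn_id.sub_const _) fun s hs => ?_
      show (1 / 2 : ℝ) < (s - ((r - 1 : ℕ) : ℂ)).re
      rw [hsh]
      have : (r : ℝ) - ε < s.re := hs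
      linarith
  let A : ι → ℂ → ℂ := fun i s => G i (s - ((r - 1 : ℕ) : ℂ))
  have hA : ∀ i, DifferentiableOn ℂ (A i) U := fun i =>
    (hG i).comp (differentiableOn_id.sub_const _) fun s hs => by
      show 1 - δ i < (s - ((r - 1 : ℕ) : ℂ)).re
      rw [hsh]
      have : (r : ℝ) - ε < s.re := hs
      have := hεδ i
      linarith
  let Fh : ι → ℂ → ℂ := fun i s => A i s / (s - (r : ℂ))
  let Fv : κ → ℂ → ℂ := fun j s => (1 - (Q j : ℂ) ^ ((r : ℂ) - s))⁻¹
  let g : ℂ → ℂ := fun s => Complex.exp (E₀ s) * ((∏ i, Fh i s) * ∏ j, Fv j s)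
  have hexp : ∀ s ∈ U, AnalyticAt ℂ (fun s => Complex.exp (E₀ s)) s := fun s hs =>
    ((hE₀.analyticAt (hUo.mem_nhds hs))).cexp
  have hFh : ∀ s ∈ U, ∀ i, MeromorphicAt (Fh i) s := fun s hs i =>
    ((hA i).analyticAt (hUo.mem_nhds hs)).meromorphicAt.div (by fun_prop)
  have hFv : ∀ (s : ℂ) (j : κ), MeromorphicAt (Fv j) s := fun s j => (meromorphicOrderAt_inv_one_sub (hQ j) r).1 s
  have hprod : ∀ s ∈ U, MeromorphicAt (fun s => (∏ i, Fh i s) * ∏ j, Fv j s) s := fun s hs =>
    (meromorphicAt_finset_prod _ _ _ fun i _ => hFh s hs i).fun_mul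
      (meromorphicAt_finset_prod _ _ _ fun j _ => hFv s j)
  have horder : ∀ s ∈ U, meromorphicOrderAt g s =
      (∑ i, meromorphicOrderAt (Fh i) s) + ∑ j, meromorphicOrderAt (Fv j) s := fun s hs => by
    rw [← order_finset_prod _ _ _ fun i _ => hFh s hs i, ← order_finset_prod _ _ _ fun j _ => hFv s j]
    refine ((meromorphicOrderAt_mul (hexp s hs).meromorphicAt (hprod s hs))).trans ?_
    have h0 : meromorphicOrderAt (fun s => Complex.exp (E₀ s)) s = 0 := by
      rw [(hexp s hs).meromorphicOrderAt_eq, (hexp s hs).analyticOrderAt_eq_zero.2 (Complex.exp_ne_zero _)]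
      rfl
    rw [h0, zero_add]
    exact meromorphicOrderAt_mul (meromorphicAt_finset_prod _ _ _ fun i _ => hFh s hs i)
      (meromorphicAt_finset_prod _ _ _ fun j _ => hFv s j)
  have hrU : (r : ℂ) ∈ U := show (r : ℝ) - ε < (r : ℂ).re by rw [Complex.natCast_re]; linarith
  have hone : ∀ i, meromorphicOrderAt (Fh i) r = -1 := fun i => by
    refine (meromorphicOrderAt_simplePole ((hA i).analyticAt (hUo.mem_nhds hrU)) ?_).2
    show G i ((r : ℂ) - ((r - 1 : ℕ) : ℂ)) ≠ 0
    rw [Nat.cast_sub hr1, Nat.cast_one, sub_sub_cancel]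
    exact hG1 i
  have hneg : meromorphicOrderAt g r < 0 := by
    rw [horder _ hrU]
    have h2 : ∀ j, meromorphicOrderAt (Fv j) r < 0 := fun j => (meromorphicOrderAt_inv_one_sub (hQ j) r).2
    rcases isEmpty_or_nonempty ι with he | hi
    · haveI : Nonempty κ := hne.resolve_left (not_nonempty_iff.2 he)
      rw [Fintype.sum_empty, zero_add]
      exact order_sum_neg _ Finset.univ_nonempty _ fun j _ => h2 j
    · rcases isEmpty_or_nonempty κ with he | hj
      · rw [Fintype.sum_empty (f := fun j => meromorphicOrderAt (Fv j) r), add_zero]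
        exact order_sum_neg _ Finset.univ_nonempty _ fun i _ => by rw [hone i]; decide
      · have a := order_sum_neg _ (Finset.univ_nonempty (α := ι)) (fun i => meromorphicOrderAt (Fh i) r)
          fun i _ => by rw [hone i]; decide
        have b := order_sum_neg _ (Finset.univ_nonempty (α := κ)) (fun j => meromorphicOrderAt (Fv j) r)
          fun j _ => h2 j
        exact order_sum_neg ({true, false} : Finset Bool) (by simp)
          (fun t => if t then ∑ i, meromorphicOrderAt (Fh i) r else ∑ j, meromorphicOrderAt (Fv j) r)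
          (fun t _ => by cases t <;> simpa) |>.trans_eq' (by simp)
  refine ⟨ε, hε0, g, fun s hs => (hexp s hs).meromorphicAt.fun_mul (hprod s hs), fun s hs => ?_, hneg,
    fun h1 h2 => ?_⟩
  · have hw : ι → 1 < (s - ((r - 1 : ℕ) : ℂ)).re := fun i => by rw [hsh]; linarith
    have hsub : s - ((r - 1 : ℕ) : ℂ) - 1 = s - r := by rw [Nat.cast_sub hr1]; push_cast; ring
    have hi : ∀ i, Fh i s = Complex.exp ((∑' P : HeightOneSpectrum (𝓞 (K i)),
        (nfNorm (K i) P : ℂ) ^ (-(s - ((r - 1 : ℕ) : ℂ)))) + logRem (nfNorm (K i)) (s - ((r - 1 : ℕ) : ℂ))) := fun i => by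
      rw [← dedekindZeta_eq_exp (K i) (hw i), hGz i _ (hw i), hsub]
    have hj : ∀ j, Fv j s = Complex.exp (-Complex.log (1 - (Q j : ℂ) ^ ((r : ℂ) - s))) := fun j => by
      have hlt : ‖(Q j : ℂ) ^ ((r : ℂ) - s)‖ < 1 := by
        rw [Complex.norm_natCast_cpow_of_pos (by have := hQ j; omega), Complex.sub_re, Complex.natCast_re]
        exact Real.rpow_lt_one_of_one_lt_of_neg (Nat.one_lt_cast.2 (hQ j)) (by linarith)
      rw [Complex.exp_neg, Complex.exp_log]
      intro h0
      rw [← sub_eq_zero.1 h0, norm_one] at hlt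
      exact lt_irrefl _ hlt
    show Complex.exp (E₀ s) * _ = _
    rw [lseries_arith_eq_exp f hr.le hs, hser s hs, Finset.prod_congr rfl fun i _ => hi i,
      Finset.prod_congr rfl fun j _ => hj j, ← Complex.exp_sum, ← Complex.exp_sum, ← Complex.exp_add,
      ← Complex.exp_add, Finset.sum_add_distrib]
    congr 1
    simp only [E₀]
    ring
  · obtain ⟨hsub, hκe⟩ := hirr h1 h2
    haveI := hsub
    haveI := hκe
    haveI : Nonempty ι := hne.resolve_right (not_nonempty_iff.2 hκe)
    refine ⟨?_, fun s hs hsr => ?_⟩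
    · rw [horder _ hrU, Fintype.sum_empty (f := fun j => meromorphicOrderAt (Fv j) r), add_zero]
      rw [Fintype.sum_subsingleton _ (Classical.arbitrary ι), hone]
    · rw [horder s hs, Fintype.sum_empty (f := fun j => meromorphicOrderAt (Fv j) s), add_zero]
      refine Finset.sum_nonneg fun i _ => AnalyticAt.meromorphicOrderAt_nonneg ?_
      exact ((hA i).analyticAt (hUo.mem_nhds hs)).div (by fun_prop) (sub_ne_zero.2 hsr)

end Groth.Agent.H27Mero
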